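import Cfsg.Agent.R2.PX.Conf_m3
import Cfsg.Agent.R2.T1.P3.Q3
import Cfsg.Agent.Lib.ListFast
import Mathlib.GroupTheory.Perm.Sign
import Cfsg.Agent.R2.T1.Inf.Dia
import Cfsg.Agent.ChevFast.E8
import Cfsg.Agent.FastGrp
import Cfsg.Agent.Prune
set_option linter.all false

section
prune_inst 0x7ffdfffbfbfceddfffff7e7fffdddffdfbba3fffe6dff9cbffe063ff0bdf5b888be56b8d0fea10fe0ed7e01410b87853ffffffffea6ffc7ffffdfff41ffbee5fe5f6b50851dc8cb40fbc0fff83f07f8e7f3fffffffffffffffffffffffffffbeffbfffffffff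

-- part: R2/T1/Mu2/Fix
section
set_option linter.all false
open scoped Cfsg.Agent.FastGrp

/-!
# The quadratic moment map: invariant functionals (helper24)

* `fix_zero` : a linear functional on the adjoint module which is invariant under `Gh F` vanishes;
* `func_zero` : an `H`-invariant functional `Mu F x` vanishes (`H` maximal, `4 |H| < q ^ 76`).
-/

set_option autoImplicit false
set_option maxRecDepth 100000

namespace Cfsg.Agent.R2.T1.Mu2

open Cfsg Cfsg.Lie Matrix Module
open Cfsg.Agent.R2.T1 Cfsg.Agent.R2.PX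
open Cfsg.Agent.ChevalleyStructure.Elts Cfsg.Agent.ChevalleyStructure.RootVec
  Cfsg.Agent.ChevalleyStructure.RootVecTab
open Cfsg.Agent.H943.E7V.Block (D1 rho)

universe u
variable {F : Type u} [Field F] {H : Subgroup ↥(chevE7.group F)}

theorem L_xs (r : ℕ) (t : F) (z : chevE7.Idx → F) : L F (xs F r t) z = chevE7.x F r t *ᵥ z := by
  rw [L_adM, Matrix.toLin'_apply, adM_xs]

/-- the root vector -/
noncomputable def er (F : Type u) [Field F] (s : ℕ) (hs : s < 126) : chevE7.Idx → F := Pi.single (Sum.inr ⟨s, hs⟩) 1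

/-- the coroot -/
noncomputable def hv (F : Type u) [Field F] (r : ℕ) : chevE7.Idx → F :=
  ∑ i : Fin chevE7.rank, (((chevE7.coroot.getD r #[]).getD i 0 : ℤ) : F) • Pi.single (Sum.inl i) 1

theorem del_er {s : ℕ} (hs : s < 126) : del F (er F s hs) = NM F s := del_inr ⟨s, hs⟩

theorem del_hv (r : ℕ) : del F (hv F r) = Hd F r := by
  unfold hv
  rw [map_sum, Hd_eq]
  exact Finset.sum_congr rfl fun i _ => by rw [map_smul, del_inl]

theorem L_xs_neg {r : ℕ} (hr : r < 126) (t : F) : L F (xs F r t) (er F (125 - r) (by omega)) =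
    er F (125 - r) (by omega) + t • hv F r - (t ^ 2) • er F r hr := by
  apply Mu.del_injective
  rw [L_xs]
  have h := del_x_neg (F := F) hr t
  rw [map_sub, map_add, map_smul, map_smul, del_er, del_er, del_hv]
  exact h

theorem L_xs_gen {r s u : ℕ} {c : ℤ} (hr : r < 126) (hs : s < 126) (hu : u < 126) (hne : s ≠ 125 - r) (hne' : s ≠ r)
    (h : cs r s = some (u, c)) (t : F) : L F (xs F r t) (er F s hs) = er F s hs + (t * (c : F)) • er F u hu := by
  apply Mu.del_injective
  rw [L_xs]
  have h1 := del_x_inr (F := F) hr hs hne hne' t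
  have h2 : csM F r s = (c : F) • NM F u := by unfold csM; rw [h]
  rw [map_add, map_smul, del_er, del_er, ← smul_smul, ← h2]
  exact h1

private noncomputable def _root_.Cfsg.Agent.LsF.fb81381_0 : {f // @Cfsg.Agent.R2.PX.lk = f} := ⟨_, by first | (delta Cfsg.Agent.R2.PX.lk; rewrite [Cfsg.Agent.LsF.nmul_pat]; exact rfl) | exact rfl⟩
/-- every root is a sum of two roots -/
theorem chkSum : ((List.range 126).all fun u => (List.range 126).any fun r => (List.range 126).any fun s =>
    !(Nat.beq (lk (PC.getD r 0) s) 0) && Nat.beq ((lk (PC.getD r 0) s - 2) / 2) u) = true := by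
  ((try (rewrite [Cfsg.Agent.LsF.fb81381_0.2, Cfsg.Agent.LsF.nsub_pat, Cfsg.Agent.LsF.ndiv_pat, Cfsg.Agent.LsF.and_eq, Cfsg.Agent.LsF.not_eq, Cfsg.Agent.LsF.all_eq, Cfsg.Agent.LsF.any_eq, Cfsg.Agent.LsF.range_eq, Cfsg.Agent.LsF.getD_eq])); decide +kernel)

theorem chkSimple : ∀ i < 7, ∀ j < 7, (chevE7.coroot.getD (chevE7.simple i) #[]).getD j 0 = if j = i then 1 else 0 := by
  decide +kernel

/-- **invariant functionals on the adjoint module** -/
theorem fix_zero {c : (chevE7.Idx → F) →ₗ[F] F} (h : ∀ (g : Gh F) (z : chevE7.Idx → F), c (L F g z) = c z) : c = 0 := by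
  have h1 : ∀ u (hu : u < 126), c (er F u hu) = 0 := by
    intro u hu
    have h2 := List.all_eq_true.1 chkSum u (List.mem_range.2 hu)
    rw [List.any_eq_true] at h2
    obtain ⟨r, hr, h2⟩ := h2
    rw [List.any_eq_true] at h2
    obtain ⟨s, hs, h2⟩ := h2
    rw [List.mem_range] at hr hs
    rw [Bool.and_eq_true, Bool.not_eq_true'] at h2
    have h3 : lk (PC.getD r 0) s ≠ 0 := by
      intro h0
      rw [h0] at h2
      exact absurd h2.1 (by simp)
    have h4 := Nat.eq_of_beq_eq_true h2.2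
    rcases PC_spec hr hs with ⟨h5, -⟩ | ⟨-, -, -, h5, h6⟩
    · exact absurd h5 h3
    obtain ⟨d, hd, hd1⟩ : ∃ d : ℤ, cs r s = some (u, d) ∧ d * d = 1 := by
      unfold cs
      rw [if_neg h3, h4]
      split_ifs
      · exact ⟨1, rfl, rfl⟩
      · exact ⟨-1, rfl, rfl⟩
    have h7 := h (xs F r 1) (er F s hs)
    rw [L_xs_gen hr hs hu h5 h6 hd, map_add, map_smul, one_mul, add_eq_left, smul_eq_mul] at h7
    exact (mul_eq_zero.1 h7).resolve_left (cast_ne hd1)
  have h2 : ∀ r < 126, c (hv F r) = 0 := by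
    intro r hr
    have h3 := h (xs F r 1) (er F (125 - r) (by omega))
    rw [L_xs_neg hr, map_sub, map_add, map_smul, map_smul, h1, h1, one_smul, smul_zero, sub_zero, zero_add] at h3
    exact h3
  have h3 : ∀ i : Fin chevE7.rank, c (Pi.single (Sum.inl i) 1) = 0 := by
    intro i
    have h4 := h2 (chevE7.simple i) (simple_lt7 i i.2)
    have h5 : hv F (chevE7.simple i) = Pi.single (Sum.inl i) 1 := by
      unfold hv
      rw [Finset.sum_eq_single i]
      · rw [chkSimple i i.2 i i.2, if_pos rfl, Int.cast_one, one_smul]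
      · intro j _ hj
        rw [chkSimple i i.2 j j.2, if_neg fun h6 => hj (Fin.ext h6), Int.cast_zero, zero_smul]
      · intro h6; exact absurd (Finset.mem_univ _) h6
    rwa [h5] at h4
  apply LinearMap.pi_ext'
  intro j
  refine LinearMap.ext_ring ?_
  rw [LinearMap.comp_apply, LinearMap.zero_comp, LinearMap.zero_apply]
  rcases j with i | s
  · exact h3 i
  · exact h1 s s.2

/-- **invariant values of the moment map** -/
theorem func_zero [Finite F] (hM : IsCoatom H) (hcard : 4 * Nat.card ↥H < Nat.card F ^ 76) {x : D1 → F}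
    (h : ∀ g : Gh F, ad F g ∈ H → Mu F (V F g x) = Mu F x) : Mu F x = 0 := by
  by_contra hne
  let S : Subgroup (Gh F) :=
    { carrier := {g | Mu F (V F g x) = Mu F x}
      one_mem' := by
        show Mu F (V F 1 x) = Mu F x
        rw [V_one]
      mul_mem' := by
        intro a b ha hb
        change Mu F (V F a x) = Mu F x at ha
        change Mu F (V F b x) = Mu F x at hb
        show Mu F (V F (a * b) x) = Mu F x
        rw [V_mul, Mu_V', hb, ← Mu_V', ha]
      inv_mem' := by
        intro a ha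
        change Mu F (V F a x) = Mu F x at ha
        show Mu F (V F a⁻¹ x) = Mu F x
        refine LinearMap.ext fun z => ?_
        calc Mu F (V F a⁻¹ x) z = Mu F x (L F a z) := by rw [← Mu_V a (V F a⁻¹ x) z, V_inv']
          _ = Mu F (V F a x) (L F a z) := by rw [ha]
          _ = Mu F x z := Mu_V a x z }
  have hS : ∀ g, g ∈ S ↔ Mu F (V F g x) = Mu F x := fun g => Iff.rfl
  have h2 : H.comap (ad F) ≤ S := fun g hg => h g hg
  have h3 : H ≤ S.map (ad F) := by
    intro y hy
    obtain ⟨g, rfl⟩ := ad_surjective y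
    exact ⟨g, h2 hy, rfl⟩
  have hker : ∀ g, ad F g = 1 → g ∈ S := fun g hg => h2 (by rw [Subgroup.mem_comap, hg]; exact one_mem _)
  have hSt : S = H.comap (ad F) := by
    rcases eq_or_lt_of_le h3 with h4 | h4
    · refine le_antisymm (fun g hg => ?_) h2
      rw [Subgroup.mem_comap, h4]
      exact ⟨g, hg, rfl⟩
    · exfalso
      apply hne
      have h5 : S.map (ad F) = ⊤ := hM.2 _ h4
      have h6 : ∀ g, g ∈ S := by
        intro g
        have h7 : ad F g ∈ S.map (ad F) := by rw [h5]; trivial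
        obtain ⟨s, hs, hs'⟩ := h7
        have h8 : s⁻¹ * g ∈ S := hker _ (by rw [map_mul, map_inv, hs', inv_mul_cancel])
        have h9 := mul_mem hs h8
        rwa [mul_inv_cancel_left] at h9
      apply fix_zero
      intro g z
      have h7 := (hS g).1 (h6 g)
      rw [← h7, Mu_V, h7]
  have h4 := Cfsg.Agent.H952.F4.MaxA.count (ρ := V F) (H.comap (ad F)) {x} (by
    rw [Set.mem_singleton_iff]
    rintro rfl
    exact hne Mu_zero) (by
    intro w hw w' hw' g hg
    rw [Set.mem_singleton_iff] at hw hw'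
    rw [hw, hw'] at hg
    rw [← hSt, hS, hg])
  have hq := two_le_card (F := F)
  have e0 : Nat.card ({x} : Set (D1 → F)) = 1 := by rw [Nat.card_unique]
  have e1 := Subgroup.card_mul_index (H.comap (ad F))
  have e2 := Subgroup.card_mul_index H
  rw [Subgroup.index_comap_of_surjective H ad_surjective] at e1
  have hpos : 0 < Nat.card ↥(H.comap (ad F)) := Nat.card_pos
  rw [e0, one_mul, finrank_V, ← e1] at h4
  have h5 : H.index ≤ Nat.card F ^ 56 - 1 := Nat.le_of_mul_le_mul_left h4 hpos
  have h6 : Nat.card ↥(chevE7.group F) ≤ Nat.card ↥H * Nat.card F ^ 56 := by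
    rw [← e2]
    exact Nat.mul_le_mul_left _ (by omega)
  have h7 := order_ge (F := F)
  have h8 : Nat.card F ^ 132 = Nat.card F ^ 76 * Nat.card F ^ 56 := by rw [← pow_add]
  have h9 : 0 < Nat.card F ^ 56 := by positivity
  have h10 : Nat.card F ^ 76 * Nat.card F ^ 56 ≤ 4 * Nat.card ↥H * Nat.card F ^ 56 := by
    rw [← h8]
    calc Nat.card F ^ 132 ≤ 4 * Nat.card ↥(chevE7.group F) := h7
      _ ≤ 4 * (Nat.card ↥H * Nat.card F ^ 56) := Nat.mul_le_mul_left _ h6
      _ = _ := by ring
  have h11 := Nat.le_of_mul_le_mul_right h10 h9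
  omega

end Cfsg.Agent.R2.T1.Mu2
end

-- part: R2/T1/P3/N4b
section
prune_inst 0x200040401122000000180000220000401000009200400000288006000a414440a04208011020051280b89c5460380000000001100020000000000400011a0180108102002000a100220006000000000000000000000000000000000000000004000000000
set_option linter.all false
open scoped Cfsg.Agent.FastGrp

-- part: R2/T1/P3/N4
section
/-!
# S5771, box P3, `p = 3`, `n = 9` (helper3), part 1

* `res9 : A_8 →* A_9` : the stabiliser of the last point;
* `Nin ψ a b c` : the two antisymmetric families `n_ij`; `Nin.sev`.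
-/

set_option autoImplicit false

namespace Cfsg.Agent.R2.T1.P3

open Cfsg Cfsg.Lie Module Matrix
open Cfsg.Agent.R2.T1 Cfsg.Agent.R2.T1.Mu Cfsg.Agent.R2.PX
open Cfsg.Agent.H943.E7V.Block (D1 rho)
open Cfsg.Agent.H952.F4 (MaxAlt)
open Equiv

universe u

/-- the first eight points -/
def e89 : Fin 8 ≃ {i : Fin 9 // (i : ℕ) < 8} where
  toFun i := ⟨i.castSucc, by rw [Fin.val_castSucc]; exact i.2⟩
  invFun i := ⟨i.1, i.2⟩
  left_inv i := rfl
  right_inv i := rfl

/-- the stabiliser of the last point -/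
def res9 : ↥(alternatingGroup (Fin 8)) →* ↥(alternatingGroup (Fin 9)) :=
  ((Perm.extendDomainHom e89).comp (alternatingGroup (Fin 8)).subtype).codRestrict _ fun g => by
    rw [Perm.mem_alternatingGroup]
    show Perm.sign (Perm.extendDomain (g : Perm (Fin 8)) e89) = 1
    rw [Perm.sign_extendDomain]
    exact Perm.mem_alternatingGroup.1 g.2

theorem res9_cast (g : ↥(alternatingGroup (Fin 8))) (i : Fin 8) :
    (res9 g : Perm (Fin 9)) i.castSucc = ((g : Perm (Fin 8)) i).castSucc :=
  Perm.extendDomain_apply_image (g : Perm (Fin 8)) e89 i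

theorem res9_last (g : ↥(alternatingGroup (Fin 8))) : (res9 g : Perm (Fin 9)) 8 = 8 :=
  Perm.extendDomain_apply_not_subtype (g : Perm (Fin 8)) e89 (by decide)

/-- the coefficient of the Gram matrix -/
def gm (F : Type u) [Field F] (i j k l : Fin 9) : F :=
  (if i = k then 1 else 0) + (if j = l then 1 else 0) - (if i = l then 1 else 0) - (if j = k then 1 else 0)

/-- the two families of vectors -/
structure Nin {F : Type u} [Field F] (ψ : ↥(alternatingGroup (Fin 9)) →* Gh F) (a b : Fin 9 → Fin 9 → D1 → F)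
    (c : F) : Prop where
  actA : ∀ (g : ↥(alternatingGroup (Fin 9))) (i j : Fin 9), V F (ψ g) (a i j) =
    a ((g : Perm (Fin 9)) i) ((g : Perm (Fin 9)) j)
  actB : ∀ (g : ↥(alternatingGroup (Fin 9))) (i j : Fin 9), V F (ψ g) (b i j) =
    b ((g : Perm (Fin 9)) i) ((g : Perm (Fin 9)) j)
  antiA : ∀ i j, a j i = - a i j
  antiB : ∀ i j, b j i = - b i j
  sumA : ∀ j, ∑ i, a i j = 0
  sumB : ∀ j, ∑ i, b i j = 0
  isoA : ∀ i j k l, sf F (a i j) (a k l) = 0
  isoB : ∀ i j k l, sf F (b i j) (b k l) = 0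
  ab : ∀ i j k l, sf F (a i j) (b k l) = c * gm F i j k l
  ne : c ≠ 0

section
variable {F : Type u} [Field F] {ψ : ↥(alternatingGroup (Fin 9)) →* Gh F} {a b : Fin 9 → Fin 9 → D1 → F} {c : F}

theorem Nin.diagA (h : Nin ψ a b c) (h2 : (2 : F) ≠ 0) (i : Fin 9) : a i i = 0 := by
  have h1 := h.antiA i i
  have h3 : (2 : F) • a i i = 0 := by
    rw [two_smul]; nth_rewrite 1 [h1]; exact neg_add_cancel _
  exact (smul_eq_zero.1 h3).resolve_left h2

theorem Nin.diagB (h : Nin ψ a b c) (h2 : (2 : F) ≠ 0) (i : Fin 9) : b i i = 0 := by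
  have h1 := h.antiB i i
  have h3 : (2 : F) • b i i = 0 := by
    rw [two_smul]; nth_rewrite 1 [h1]; exact neg_add_cancel _
  exact (smul_eq_zero.1 h3).resolve_left h2

/-- the restriction to `A_8` -/
theorem Nin.sev (h : Nin ψ a b c) (h2 : (2 : F) ≠ 0) (h3 : (3 : F) = 0) :
    Sev (ψ.comp res9) (fun i : Fin 8 => a i.castSucc 8) (fun i : Fin 8 => b i.castSucc 8) (-c) where
  actA g i := by
    show V F (ψ (res9 g)) _ = _
    rw [h.actA, res9_cast, res9_last]
  actB g i := by
    show V F (ψ (res9 g)) _ = _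
    rw [h.actB, res9_cast, res9_last]
  sumA := by
    have h1 := h.sumA 8
    rw [Fin.sum_univ_castSucc] at h1
    have h4 : a (Fin.last 8) 8 = 0 := h.diagA h2 8
    rwa [h4, add_zero] at h1
  sumB := by
    have h1 := h.sumB 8
    rw [Fin.sum_univ_castSucc] at h1
    have h4 : b (Fin.last 8) 8 = 0 := h.diagB h2 8
    rwa [h4, add_zero] at h1
  isoA _ _ := h.isoA _ _ _ _
  isoB _ _ := h.isoB _ _ _ _
  ab i j := by
    rw [h.ab]
    have hi : i.castSucc ≠ (8 : Fin 9) := by
      intro h'
      have h7 : (i : ℕ) = 8 := congrArg Fin.val h'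
      have h9 := i.2
      omega
    have hj : (8 : Fin 9) ≠ j.castSucc := by
      intro h'
      have := congrArg Fin.val h'
      rw [Fin.val_castSucc] at this
      have h8 : ((8 : Fin 9) : ℕ) = 8 := rfl
      have h9 := j.2
      omega
    unfold gm
    rw [if_neg hi, if_neg hj, if_pos rfl]
    by_cases hij : i = j
    · subst hij
      rw [if_pos rfl, if_pos rfl]
      linear_combination (3 * c) * h3
    · rw [if_neg hij, if_neg (fun h' => hij (Fin.castSucc_injective _ h'))]
      ring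
  ne := neg_ne_zero.2 h.ne

/-- the cyclic sum -/
def sg (a : Fin 9 → Fin 9 → D1 → F) (i j k : Fin 9) : D1 → F := a i j + a j k + a k i

theorem gm_sg (i j k : Fin 9) : gm F i j i j + gm F j k i j + gm F k i i j = 0 := by
  unfold gm
  have e : ∀ x y : Fin 9, (if x = y then (1 : F) else 0) = if y = x then 1 else 0 := fun x y => by
    by_cases h : x = y
    · rw [if_pos h, if_pos h.symm]
    · rw [if_neg h, if_neg (Ne.symm h)]
  rw [if_pos rfl, if_pos rfl, e j i, e k j, e k i]
  ring

end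

section ext
variable {F K : Type u} [Field F] [Field K] (f : F →+* K) {ψ : ↥(alternatingGroup (Fin 9)) →* Gh F}
  {a b : Fin 9 → Fin 9 → D1 → F} {c : F}

/-- the combination over the extension -/
def cn (a b : Fin 9 → Fin 9 → D1 → F) (s t : K) (i j : Fin 9) : D1 → K :=
  s • (fun x => f (a i j x)) + t • (fun x => f (b i j x))

theorem act_cn (h : Nin ψ a b c) (s t : K) (g : ↥(alternatingGroup (Fin 9))) (i j : Fin 9) :
    V K (emb f (ψ g)) (cn f a b s t i j) = cn f a b s t ((g : Perm (Fin 9)) i) ((g : Perm (Fin 9)) j) := by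
  unfold cn
  rw [map_add, map_smul, map_smul, V_emb, V_emb, h.actA, h.actB]

theorem sf_cn (h : Nin ψ a b c) (s t s' t' : K) (i j k l : Fin 9) :
    sf K (cn f a b s t i j) (cn f a b s' t' k l) = (s * t' - t * s') * f (c * gm F i j k l) := by
  have hsw : ∀ i j k l : Fin 9, gm F i j k l = gm F k l i j := by
    intro i j k l
    unfold gm
    have e : ∀ x y : Fin 9, (if x = y then (1 : F) else 0) = if y = x then 1 else 0 := fun x y => by
      by_cases h : x = y
      · rw [if_pos h, if_pos h.symm]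
      · rw [if_neg h, if_neg (Ne.symm h)]
    rw [e i k, e j l, e i l, e j k]
    ring
  have h1 : sf F (b i j) (a k l) = - (c * gm F i j k l) := by
    rw [sf_swap, h.ab, hsw]
  unfold cn
  simp only [map_add, map_smul, LinearMap.add_apply, LinearMap.smul_apply, smul_eq_mul, sf_emb, h.isoA, h.isoB,
    h1, h.ab, map_zero, mul_zero, zero_add, add_zero, map_neg]
  ring

theorem cn_anti (h : Nin ψ a b c) (s t : K) (i j : Fin 9) : cn f a b s t j i = - cn f a b s t i j := by
  unfold cn
  rw [h.antiA, h.antiB]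
  funext x
  simp only [Pi.add_apply, Pi.smul_apply, smul_eq_mul, Pi.neg_apply, map_neg]
  ring

/-- `D(n_ik u, n_jk u) = 0` -/
theorem D_cn (h : Nin ψ a b c) (h2 : (2 : F) ≠ 0) {s t : K}
    (hT : TP K (cb f (fun i : Fin 8 => a i.castSucc 8) (fun i : Fin 8 => b i.castSucc 8) s t)) (i j k : Fin 9) :
    DD K (cn f a b s t i k) (cn f a b s t j k) = 0 := by
  have h2K : (2 : K) ≠ 0 := by
    intro h'
    apply h2
    apply (map_eq_zero f).1
    rw [map_ofNat]; exact h'
  have h88 : cn f a b s t 8 8 = 0 := by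
    unfold cn
    rw [h.diagA h2, h.diagB h2]
    funext x
    simp
  -- the case `k = 8`
  have key : ∀ i j : Fin 9, DD K (cn f a b s t i 8) (cn f a b s t j 8) = 0 := by
    intro i j
    induction i using Fin.lastCases with
    | last =>
      have : cn f a b s t (Fin.last 8) 8 = 0 := h88
      rw [this, DD_zero_left]
    | cast i =>
      induction j using Fin.lastCases with
      | last =>
        have : cn f a b s t (Fin.last 8) 8 = 0 := h88
        rw [this, DD_zero_right]
      | cast j => exact hT.zero h2K i j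
  -- an even permutation which maps `8` to `k`
  obtain ⟨g, hg⟩ : ∃ g : ↥(alternatingGroup (Fin 9)), (g : Perm (Fin 9)) 8 = k := by
    by_cases hk : k = 8
    · exact ⟨1, hk.symm⟩
    · obtain ⟨x, y, hx8, hy8, hxk, hyk, hxy⟩ : ∃ x y : Fin 9, x ≠ 8 ∧ y ≠ 8 ∧ x ≠ k ∧ y ≠ k ∧ x ≠ y := by
        revert k
        decide
      refine ⟨⟨swap 8 k * swap x y, ?_⟩, ?_⟩
      · rw [Perm.mem_alternatingGroup, Perm.sign_mul, Perm.sign_swap (Ne.symm hk), Perm.sign_swap hxy]; rfl
      · show (swap 8 k * swap x y) 8 = k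
        rw [Perm.mul_apply, swap_apply_of_ne_of_ne (Ne.symm hx8) (Ne.symm hy8), swap_apply_left]
  have e1 : cn f a b s t i k = V K (emb f (ψ g)) (cn f a b s t ((g : Perm (Fin 9))⁻¹ i) 8) := by
    rw [act_cn f h, hg]
    congr 1
    exact ((g : Perm (Fin 9)).apply_symm_apply i).symm
  have e2 : cn f a b s t j k = V K (emb f (ψ g)) (cn f a b s t ((g : Perm (Fin 9))⁻¹ j) 8) := by
    rw [act_cn f h, hg]
    congr 1
    exact ((g : Perm (Fin 9)).apply_symm_apply j).symm
  rw [e1, e2, DD_V_iff]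
  exact key _ _

theorem D_cn' (h : Nin ψ a b c) (h2 : (2 : F) ≠ 0) {s t : K}
    (hT : TP K (cb f (fun i : Fin 8 => a i.castSucc 8) (fun i : Fin 8 => b i.castSucc 8) s t)) (i j k : Fin 9) :
    DD K (cn f a b s t i j) (cn f a b s t i k) = 0 := by
  rw [cn_anti f h s t j i, cn_anti f h s t k i, DD_neg_left, DD_neg_right, D_cn f h h2 hT]
  simp

/-- the cyclic sum over the extension -/
def sgK (a b : Fin 9 → Fin 9 → D1 → F) (s t : K) (i j k : Fin 9) : D1 → K :=
  cn f a b s t i j + cn f a b s t j k + cn f a b s t k i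

theorem D_sg (h : Nin ψ a b c) (h2 : (2 : F) ≠ 0) {s t : K}
    (hT : TP K (cb f (fun i : Fin 8 => a i.castSucc 8) (fun i : Fin 8 => b i.castSucc 8) s t)) (i j k : Fin 9) :
    DD K (sgK f a b s t i j k) (cn f a b s t i j) = 0 := by
  have e1 := D_cn' f h h2 hT i j j
  have e2 : DD K (cn f a b s t j k) (cn f a b s t i j) = 0 := by
    rw [cn_anti f h s t k j, DD_neg_left, D_cn f h h2 hT, neg_zero]
  have e3 : DD K (cn f a b s t k i) (cn f a b s t i j) = 0 := by
    rw [cn_anti f h s t i k, DD_neg_left, D_cn' f h h2 hT, neg_zero]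
  unfold sgK
  rw [DD_add_left, DD_add_left, e1, e2, e3]
  simp

end ext

end Cfsg.Agent.R2.T1.P3
end

-- part: R2/T1/P3/N4b
section
/-!
# S5771, box P3, `p = 3`, `n = 9` (helper3), part 2

* `Zc a b s t` : the cyclic sums of `s • a + t • b` vanish;
* `third` : a vector off the two pure lines in the kernel forces all the cyclic sums to vanish;
* `dicho` : either all the cyclic sums vanish or all the vectors of the span of the kernel are pure.
-/

set_option autoImplicit false

namespace Cfsg.Agent.R2.T1.P3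

open Cfsg Cfsg.Lie Module Matrix
open Cfsg.Agent.R2.T1 Cfsg.Agent.R2.T1.Mu Cfsg.Agent.R2.PX
open Cfsg.Agent.H943.E7V.Block (D1 rho)
open Cfsg.Agent.H952.F4 (MaxAlt)
open Equiv

universe u

/-- the kernel of the cyclic sums -/
def Zc {F : Type u} [Field F] (a b : Fin 9 → Fin 9 → D1 → F) (s t : F) : Prop :=
  ∀ i j k, s • sg a i j k + t • sg b i j k = 0

/-- the span of the kernel -/
def WZ {F : Type u} [Field F] (a b : Fin 9 → Fin 9 → D1 → F) : Submodule F (D1 → F) :=
  Submodule.span F {w | ∃ s t i j, Zc a b s t ∧ w = s • a i j + t • b i j}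

section ext
variable {F K : Type u} [Field F] [Field K] (f : F →+* K) {ψ : ↥(alternatingGroup (Fin 9)) →* Gh F}
  {a b : Fin 9 → Fin 9 → D1 → F} {c : F}

theorem cn_lin (s t s' t' α β : K) (i j : Fin 9) :
    cn f a b (α * s + β * s') (α * t + β * t') i j = α • cn f a b s t i j + β • cn f a b s' t' i j := by
  unfold cn
  module

theorem sgK_lin (s t s' t' α β : K) (i j k : Fin 9) :
    sgK f a b (α * s + β * s') (α * t + β * t') i j k = α • sgK f a b s t i j k + β • sgK f a b s' t' i j k := by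
  unfold sgK
  rw [cn_lin, cn_lin, cn_lin]
  module

theorem cn_emb (s t : F) (i j : Fin 9) : cn f a b (f s) (f t) i j = fun x => f ((s • a i j + t • b i j) x) := by
  funext x
  unfold cn
  simp only [Pi.add_apply, Pi.smul_apply, smul_eq_mul, map_add, map_mul]

theorem sgK_emb (s t : F) (i j k : Fin 9) :
    sgK f a b (f s) (f t) i j k = fun x => f ((s • sg a i j k + t • sg b i j k) x) := by
  funext x
  unfold sgK
  rw [cn_emb, cn_emb, cn_emb]
  simp only [sg, Pi.add_apply, Pi.smul_apply, smul_eq_mul, map_add, map_mul]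
  ring

theorem gm_self {i j : Fin 9} (hij : i ≠ j) : gm F i j i j = 2 := by
  unfold gm
  rw [if_pos rfl, if_pos rfl, if_neg hij, if_neg (Ne.symm hij)]
  ring

theorem sgK_deg (h : Nin ψ a b c) (h2 : (2 : F) ≠ 0) (s t : K) (i k : Fin 9) : sgK f a b s t i i k = 0 := by
  have h2K : (2 : K) ≠ 0 := by
    intro h'
    apply h2
    apply (map_eq_zero f).1
    rw [map_ofNat]; exact h'
  have h1 : cn f a b s t i i = 0 := by
    have h3 := cn_anti f h s t i i
    have h4 : (2 : K) • cn f a b s t i i = 0 := by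
      rw [two_smul]; nth_rewrite 1 [h3]; exact neg_add_cancel _
    exact (smul_eq_zero.1 h4).resolve_left h2K
  unfold sgK
  rw [h1, cn_anti f h s t i k]
  simp

/-- the third case -/
theorem third (h : Nin ψ a b c) (h2 : (2 : F) ≠ 0) {s1 t1 s2 t2 : K} (hΔ : s1 * t2 - t1 * s2 ≠ 0)
    (T1 : TP K (cb f (fun i : Fin 8 => a i.castSucc 8) (fun i : Fin 8 => b i.castSucc 8) s1 t1))
    (T2 : TP K (cb f (fun i : Fin 8 => a i.castSucc 8) (fun i : Fin 8 => b i.castSucc 8) s2 t2)) {α β : K}
    (hα : α ≠ 0) (i j k : Fin 9)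
    (h0 : α • sgK f a b s1 t1 i j k + β • sgK f a b s2 t2 i j k = 0) : sgK f a b s1 t1 i j k = 0 := by
  have h2K : (2 : K) ≠ 0 := by
    intro h'
    apply h2
    apply (map_eq_zero f).1
    rw [map_ofNat]; exact h'
  by_cases hij : i = j
  · subst hij; exact sgK_deg f h h2 _ _ _ _
  have hx : sgK f a b s1 t1 i j k = (-(α⁻¹ * β)) • sgK f a b s2 t2 i j k := by
    have h3 : α • sgK f a b s1 t1 i j k = -(β • sgK f a b s2 t2 i j k) := eq_neg_of_add_eq_zero_left h0
    calc sgK f a b s1 t1 i j k = α⁻¹ • (α • sgK f a b s1 t1 i j k) := by rw [smul_smul, inv_mul_cancel₀ hα, one_smul]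
      _ = _ := by rw [h3, smul_neg, smul_smul, neg_smul]
  have hxz : DD K (sgK f a b s1 t1 i j k) (cn f a b s1 t1 i j) = 0 := D_sg f h h2 T1 i j k
  have hxy : DD K (sgK f a b s1 t1 i j k) (cn f a b s2 t2 i j) = 0 := by
    rw [hx, DD_smul_left, D_sg f h h2 T2 i j k, smul_zero]
  have h1 := ident (F := K) (sgK f a b s1 t1 i j k) (cn f a b s2 t2 i j) (cn f a b s1 t1 i j)
  have hsz : sf K (sgK f a b s1 t1 i j k) (cn f a b s1 t1 i j) = 0 := by
    unfold sgK
    rw [map_add, map_add, LinearMap.add_apply, LinearMap.add_apply, sf_cn f h, sf_cn f h, sf_cn f h, mul_comm t1 s1, sub_self]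
    ring
  have hsy : sf K (sgK f a b s1 t1 i j k) (cn f a b s2 t2 i j) = 0 := by
    unfold sgK
    rw [map_add, map_add, LinearMap.add_apply, LinearMap.add_apply, sf_cn f h, sf_cn f h, sf_cn f h, ← mul_add, ← mul_add,
      ← map_add, ← map_add, ← mul_add, ← mul_add, gm_sg, mul_zero, map_zero, mul_zero]
  have hyz : sf K (cn f a b s2 t2 i j) (cn f a b s1 t1 i j) = -((s1 * t2 - t1 * s2) * f (c * 2)) := by
    rw [sf_cn f h, gm_self hij]
    ring
  rw [hxz, hxy, Matrix.zero_mulVec, Matrix.zero_mulVec, hsz, hsy, hyz, zero_smul, zero_smul, sub_zero, sub_zero, add_zero] at h1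
  refine (smul_eq_zero.1 h1.symm).resolve_left ?_
  exact mul_ne_zero h2K (neg_ne_zero.2 (mul_ne_zero hΔ fun h' => (mul_ne_zero h.ne h2) ((map_eq_zero f).1 h')))

/-- the dichotomy -/
theorem dicho (h : Nin ψ a b c) (h2 : (2 : F) ≠ 0)
    (hs : Sev (ψ.comp res9) (fun i : Fin 8 => a i.castSucc 8) (fun i : Fin 8 => b i.castSucc 8) (-c))
    (hP : PQ f (fun i : Fin 8 => a i.castSucc 8) (fun i : Fin 8 => b i.castSucc 8))
    (h0 : ∃ s t : F, (s ≠ 0 ∨ t ≠ 0) ∧ Zc a b s t) :
    (∀ s t, Zc a b s t) ∨ ∀ x ∈ WZ a b, PX.Pure F x := by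
  obtain ⟨s1, t1, s2, t2, hΔ, hp1, hp2⟩ := hP
  have T1 := tp_cb f hs hp1
  have T2 := tp_cb f hs hp2
  by_cases hall : ∀ s t, Zc a b s t
  · exact Or.inl hall
  right
  set Δ : K := s1 * t2 - t1 * s2 with hΔdef
  have key : Δ⁻¹ * Δ = 1 := inv_mul_cancel₀ hΔ
  -- coordinates
  let al : F → F → K := fun s t => Δ⁻¹ * (f s * t2 - f t * s2)
  let be : F → F → K := fun s t => Δ⁻¹ * (f t * s1 - f s * t1)
  have hs1 : ∀ s t, f s = al s t * s1 + be s t * s2 := fun s t => by
    show f s = Δ⁻¹ * (f s * t2 - f t * s2) * s1 + Δ⁻¹ * (f t * s1 - f s * t1) * s2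
    linear_combination (-(f s)) * key + Δ⁻¹ * f s * hΔdef
  have ht1 : ∀ s t, f t = al s t * t1 + be s t * t2 := fun s t => by
    show f t = Δ⁻¹ * (f s * t2 - f t * s2) * t1 + Δ⁻¹ * (f t * s1 - f s * t1) * t2
    linear_combination (-(f t)) * key + Δ⁻¹ * f t * hΔdef
  have hcn : ∀ s t i j, cn f a b (f s) (f t) i j = al s t • cn f a b s1 t1 i j + be s t • cn f a b s2 t2 i j := by
    intro s t i j
    rw [← cn_lin, ← hs1, ← ht1]
  have hsgK : ∀ s t i j k, sgK f a b (f s) (f t) i j k = al s t • sgK f a b s1 t1 i j k + be s t • sgK f a b s2 t2 i j k := by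
    intro s t i j k
    rw [← sgK_lin, ← hs1, ← ht1]
  have hZ : ∀ s t, Zc a b s t ↔ ∀ i j k, al s t • sgK f a b s1 t1 i j k + be s t • sgK f a b s2 t2 i j k = 0 := by
    intro s t
    constructor
    · intro hz i j k
      rw [← hsgK, sgK_emb, hz i j k]
      funext x
      simp
    · intro hz i j k
      have h3 := hz i j k
      rw [← hsgK, sgK_emb] at h3
      funext x
      exact (map_eq_zero f).1 (congrFun h3 x)
  -- no element of the kernel is off the two lines
  have hline : ∀ s t, Zc a b s t → al s t = 0 ∨ be s t = 0 := by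
    intro s t hz
    by_contra hcon
    push Not at hcon
    apply hall
    have h3 := (hZ s t).1 hz
    have e1 : ∀ i j k, sgK f a b s1 t1 i j k = 0 := fun i j k => third f h h2 hΔ T1 T2 hcon.1 i j k (h3 i j k)
    have e2 : ∀ i j k, sgK f a b s2 t2 i j k = 0 := fun i j k => by
      have h4 := h3 i j k
      rw [e1, smul_zero, zero_add] at h4
      exact (smul_eq_zero.1 h4).resolve_left hcon.2
    intro s' t'
    rw [hZ]
    intro i j k
    rw [e1, e2, smul_zero, smul_zero, add_zero]
  have hZadd : ∀ {s t s' t'}, Zc a b s t → Zc a b s' t' → Zc a b (s + s') (t + t') := by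
    intro s t s' t' hz hz' i j k
    have h3 := hz i j k
    have h4 := hz' i j k
    calc (s + s') • sg a i j k + (t + t') • sg b i j k
        = (s • sg a i j k + t • sg b i j k) + (s' • sg a i j k + t' • sg b i j k) := by module
      _ = 0 := by rw [h3, h4, add_zero]
  have hal : ∀ s t s' t', al (s + s') (t + t') = al s t + al s' t' := fun s t s' t' => by
    show Δ⁻¹ * (f (s + s') * t2 - f (t + t') * s2) = Δ⁻¹ * (f s * t2 - f t * s2) + Δ⁻¹ * (f s' * t2 - f t' * s2)
    rw [map_add, map_add]; ring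
  have hbe : ∀ s t s' t', be (s + s') (t + t') = be s t + be s' t' := fun s t s' t' => by
    show Δ⁻¹ * (f (t + t') * s1 - f (s + s') * t1) = Δ⁻¹ * (f t * s1 - f s * t1) + Δ⁻¹ * (f t' * s1 - f s' * t1)
    rw [map_add, map_add]; ring
  have hnz : ∀ s t, al s t = 0 → be s t = 0 → s = 0 ∧ t = 0 := by
    intro s t h3 h4
    have h5 := hs1 s t
    have h6 := ht1 s t
    rw [h3, h4, zero_mul, zero_mul, add_zero] at h5 h6
    exact ⟨(map_eq_zero f).1 h5, (map_eq_zero f).1 h6⟩
  obtain ⟨s0, t0, hne, hz0⟩ := h0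
  -- purity from vanishing of `D` on one line
  have pure_of : ∀ (s' t' : K) (T : TP K (cb f (fun i : Fin 8 => a i.castSucc 8) (fun i : Fin 8 => b i.castSucc 8) s' t'))
      (hsg : ∀ i j k, sgK f a b s' t' i j k = 0)
      (hl : ∀ s t, Zc a b s t → ∃ α : K, ∀ i j, cn f a b (f s) (f t) i j = α • cn f a b s' t' i j),
      ∀ x ∈ WZ a b, PX.Pure F x := by
    intro s' t' T hsg hl
    have hd : ∀ i j, cn f a b s' t' i j = cn f a b s' t' i 8 - cn f a b s' t' j 8 := by
      intro i j
      have h3 := hsg i j 8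
      unfold sgK at h3
      rw [cn_anti f h s' t' i 8] at h3
      rw [eq_sub_iff_add_eq, ← sub_eq_zero, ← h3]
      abel
    have hD : ∀ i j k l, DD K (cn f a b s' t' i j) (cn f a b s' t' k l) = 0 := by
      intro i j k l
      rw [hd i j, hd k l, sub_eq_add_neg, sub_eq_add_neg, DD_add_left, DD_add_right, DD_add_right, DD_neg_left, DD_neg_left,
        DD_neg_right, DD_neg_right, D_cn f h h2 T, D_cn f h h2 T, D_cn f h h2 T, D_cn f h h2 T]
      simp
    have hDF : ∀ s t i j, Zc a b s t → ∀ s'' t'' k l, Zc a b s'' t'' →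
        DD F (s • a i j + t • b i j) (s'' • a k l + t'' • b k l) = 0 := by
      intro s t i j hz s'' t'' k l hz'
      obtain ⟨α, hα⟩ := hl s t hz
      obtain ⟨β, hβ⟩ := hl s'' t'' hz'
      have h3 : (DD F (s • a i j + t • b i j) (s'' • a k l + t'' • b k l)).map f = 0 := by
        rw [← DD_emb, ← cn_emb, ← cn_emb, hα, hβ, DD_smul_left, DD_smul_right, hD, smul_zero, smul_zero]
      ext x y
      have h4 := congrFun (congrFun h3 x) y
      rw [Matrix.map_apply, Matrix.zero_apply] at h4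
      rw [Matrix.zero_apply]
      exact (map_eq_zero f).1 h4
    have hDW : ∀ x ∈ WZ a b, ∀ y ∈ WZ a b, DD F x y = 0 := by
      intro x hx
      induction hx using Submodule.span_induction with
      | zero => intro y _; exact DD_zero_left y
      | add x x' _ _ hx hx' => intro y hy; rw [DD_add_left, hx y hy, hx' y hy, add_zero]
      | smul r x _ hx => intro y hy; rw [DD_smul_left, hx y hy, smul_zero]
      | mem x hx =>
        obtain ⟨s, t, i, j, hz, rfl⟩ := hx
        intro y hy
        induction hy using Submodule.span_induction with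
        | zero => exact DD_zero_right _
        | add y y' _ _ hy hy' => rw [DD_add_right, hy, hy', add_zero]
        | smul r y _ hy => rw [DD_smul_right, hy, smul_zero]
        | mem y hy =>
          obtain ⟨s'', t'', k, l, hz', rfl⟩ := hy
          exact hDF s t i j hz s'' t'' k l hz'
    intro x hx
    exact hDW x hx x hx
  rcases hline s0 t0 hz0 with hc | hc
  · -- on the second line
    have hb0 : be s0 t0 ≠ 0 := fun h' => by
      obtain ⟨e1, e2⟩ := hnz s0 t0 hc h'
      rcases hne with h3 | h3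
      · exact h3 e1
      · exact h3 e2
    have hl : ∀ s t, Zc a b s t → al s t = 0 := by
      intro s t hz
      rcases hline s t hz with h3 | h3
      · exact h3
      · rcases hline _ _ (hZadd hz hz0) with h4 | h4
        · rw [hal, hc, add_zero] at h4; exact h4
        · rw [hbe, h3, zero_add] at h4; exact absurd h4 hb0
    refine pure_of s2 t2 T2 (fun i j k => ?_) fun s t hz => ⟨be s t, fun i j => ?_⟩
    · have h3 := (hZ s0 t0).1 hz0 i j k
      rw [hc, zero_smul, zero_add] at h3
      exact (smul_eq_zero.1 h3).resolve_left hb0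
    · rw [hcn, hl s t hz, zero_smul, zero_add]
  · have ha0 : al s0 t0 ≠ 0 := fun h' => by
      obtain ⟨e1, e2⟩ := hnz s0 t0 h' hc
      rcases hne with h3 | h3
      · exact h3 e1
      · exact h3 e2
    have hl : ∀ s t, Zc a b s t → be s t = 0 := by
      intro s t hz
      rcases hline s t hz with h3 | h3
      · rcases hline _ _ (hZadd hz hz0) with h4 | h4
        · rw [hal, h3, zero_add] at h4; exact absurd h4 ha0
        · rw [hbe, hc, add_zero] at h4; exact h4
      · exact h3
    refine pure_of s1 t1 T1 (fun i j k => ?_) fun s t hz => ⟨al s t, fun i j => ?_⟩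
    · have h3 := (hZ s0 t0).1 hz0 i j k
      rw [hc, zero_smul, add_zero] at h3
      exact (smul_eq_zero.1 h3).resolve_left ha0
    · rw [hcn, hl s t hz, zero_smul, add_zero]

end ext

end Cfsg.Agent.R2.T1.P3
end

private theorem dce_76d020e43a8a : _root_.True := by
  try have : _root_.True := by simp only [_root_.Cfsg.Agent.R2.T1.P3.sg.eq_1]
  exact _root_.True.intro
end

-- part: R2/T1/P3/N4c_mg
section
prune_inst 0x20000040012200000018000002000004100000000000000088c002000200460009022000102001008008a84400380000000001100000000000000400011801a0908002023100a104060007800000000000000000000000000000000000000004000000000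
set_option linter.all false
open scoped Cfsg.Agent.FastGrp

-- part: R2/T1/P3/N4c
section
/-!
# S5771, box P3, `p = 3`, `n = 9` (helper3), part 3

* `V_h` : the action of an element which normalises the image of `A_9`;
* `stab_WZ`, `stab_V7` : stability under the preimage of `H`.
-/

set_option autoImplicit false

namespace Cfsg.Agent.R2.T1.P3

open Cfsg Cfsg.Lie Module Matrix
open Cfsg.Agent.R2.T1 Cfsg.Agent.R2.T1.Mu Cfsg.Agent.R2.PX
open Cfsg.Agent.H943.E7V.Block (D1 rho)
open Cfsg.Agent.H952.F4 (MaxAlt)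
open Equiv

universe u

/-- the vectors fixed by `A_7` are the combinations of `a 7 8`, `b 7 8` -/
def FixA7 {F : Type u} [Field F] (ψ : ↥(alternatingGroup (Fin 9)) →* Gh F) (a b : Fin 9 → Fin 9 → D1 → F) : Prop :=
  ∀ w : D1 → F, (∀ g : ↥(alternatingGroup (Fin 9)), (g : Perm (Fin 9)) 7 = 7 → (g : Perm (Fin 9)) 8 = 8 →
    V F (ψ g) w = w) → ∃ s t : F, w = s • a 7 8 + t • b 7 8

/-- `h` induces the permutation `σ` -/
def Ind {F : Type u} [Field F] (ψ : ↥(alternatingGroup (Fin 9)) →* Gh F) (h : Gh F) (σ : Perm (Fin 9)) : Prop :=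
  ∀ a b : ↥(alternatingGroup (Fin 9)), (b : Perm (Fin 9)) = σ * a * σ⁻¹ → h * ψ a * h⁻¹ = ψ b

/-- 2-transitivity -/
theorem exists_two {i j : Fin 9} (hij : i ≠ j) : ∃ g : ↥(alternatingGroup (Fin 9)), (g : Perm (Fin 9)) 7 = i ∧
    (g : Perm (Fin 9)) 8 = j := by
  obtain ⟨σ, h7, h8⟩ : ∃ σ : Perm (Fin 9), σ 7 = i ∧ σ 8 = j := by
    by_cases h7 : i = 7
    · subst h7
      refine ⟨swap 8 j, ?_, swap_apply_left _ _⟩
      exact swap_apply_of_ne_of_ne (by decide) hij
    · by_cases h : swap 7 i j = 8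
      · refine ⟨swap 7 i, swap_apply_left _ _, ?_⟩
        rw [← h]; exact swap_apply_self _ _ _ |>.trans rfl
      · refine ⟨swap 7 i * swap 8 (swap 7 i j), ?_, ?_⟩
        · have h10 : swap 8 (swap 7 i j) 7 = 7 := by
            refine swap_apply_of_ne_of_ne (by decide) ?_
            intro h'
            have h9 := congrArg (swap 7 i) h'
            rw [swap_apply_left, swap_apply_self] at h9
            exact hij h9
          rw [Perm.mul_apply, h10, swap_apply_left]
        · rw [Perm.mul_apply, swap_apply_left, swap_apply_self]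
  rcases Int.units_eq_one_or (Perm.sign σ) with h | h
  · exact ⟨⟨σ, Perm.mem_alternatingGroup.2 h⟩, h7, h8⟩
  · refine ⟨⟨σ * _root_.Equiv.swap 0 1, Perm.mem_alternatingGroup.2 ?_⟩, ?_, ?_⟩
    · rw [Perm.sign_mul, h, Perm.sign_swap (by decide)]; rfl
    · show (σ * _root_.Equiv.swap 0 1 : Perm (Fin 9)) 7 = i
      rw [Perm.mul_apply, swap_apply_of_ne_of_ne (by decide) (by decide), h7]
    · show (σ * _root_.Equiv.swap 0 1 : Perm (Fin 9)) 8 = j
      rw [Perm.mul_apply, swap_apply_of_ne_of_ne (by decide) (by decide), h8]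

section
variable {F : Type u} [Field F] {ψ : ↥(alternatingGroup (Fin 9)) →* Gh F} {a b : Fin 9 → Fin 9 → D1 → F} {c : F}

/-- the conjugate of an element of `A_9` -/
def cj (σ : Perm (Fin 9)) (g : ↥(alternatingGroup (Fin 9))) : ↥(alternatingGroup (Fin 9)) :=
  ⟨σ * g * σ⁻¹, by
    rw [Perm.mem_alternatingGroup, Perm.sign_mul, Perm.sign_mul, Perm.sign_inv, Perm.mem_alternatingGroup.1 g.2, mul_one,
      Int.units_mul_self]⟩

theorem ind_V {h : Gh F} {σ : Perm (Fin 9)} (hI : Ind ψ h σ) (g : ↥(alternatingGroup (Fin 9))) (w : D1 → F) :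
    V F h (V F (ψ g) w) = V F (ψ (cj σ g)) (V F h w) := by
  have h1 := hI g (cj σ g) rfl
  rw [← h1, ← Module.End.mul_apply, ← Module.End.mul_apply, ← map_mul, ← map_mul, inv_mul_cancel_right]

/-- a vector of the form `a 7 8` is mapped to a combination -/
theorem img (hN : Nin ψ a b c) (hF : FixA7 ψ a b) {h : Gh F} {σ : Perm (Fin 9)} (hI : Ind ψ h σ) {w : D1 → F}
    (hw : ∀ g : ↥(alternatingGroup (Fin 9)), (g : Perm (Fin 9)) 7 = 7 → (g : Perm (Fin 9)) 8 = 8 → V F (ψ g) w = w) :
    ∃ s t : F, V F h w = s • a (σ 7) (σ 8) + t • b (σ 7) (σ 8) := by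
  have hne : σ 7 ≠ σ 8 := fun h' => absurd (σ.injective h') (by decide)
  obtain ⟨k, h7, h8⟩ := exists_two hne
  obtain ⟨s, t, hst⟩ := hF (V F (ψ k⁻¹) (V F h w)) (by
    intro g g7 g8
    -- `k g k⁻¹ = σ g' σ⁻¹`
    let g' : ↥(alternatingGroup (Fin 9)) := cj σ⁻¹ (k * g * k⁻¹)
    have e1 : cj σ g' = k * g * k⁻¹ := by
      apply Subtype.ext
      show σ * (σ⁻¹ * ((k * g * k⁻¹ : ↥(alternatingGroup (Fin 9))) : Perm (Fin 9)) * σ⁻¹⁻¹) * σ⁻¹ = _
      group
    have hk7 : (k : Perm (Fin 9))⁻¹ (σ 7) = 7 := by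
      rw [← h7]; exact (k : Perm (Fin 9)).symm_apply_apply 7
    have hk8 : (k : Perm (Fin 9))⁻¹ (σ 8) = 8 := by
      rw [← h8]; exact (k : Perm (Fin 9)).symm_apply_apply 8
    have e7 : (g' : Perm (Fin 9)) 7 = 7 := by
      show σ⁻¹ ((k : Perm (Fin 9)) ((g : Perm (Fin 9)) ((k : Perm (Fin 9))⁻¹ (σ⁻¹⁻¹ 7)))) = 7
      rw [inv_inv, hk7, g7, h7]
      exact σ.symm_apply_apply 7
    have e8 : (g' : Perm (Fin 9)) 8 = 8 := by
      show σ⁻¹ ((k : Perm (Fin 9)) ((g : Perm (Fin 9)) ((k : Perm (Fin 9))⁻¹ (σ⁻¹⁻¹ 8)))) = 8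
      rw [inv_inv, hk8, g8, h8]
      exact σ.symm_apply_apply 8
    have h1 := ind_V hI g' w
    rw [hw g' e7 e8, e1] at h1
    calc V F (ψ g) (V F (ψ k⁻¹) (V F h w)) = V F (ψ k⁻¹) (V F (ψ (k * g * k⁻¹)) (V F h w)) := by
          rw [← Module.End.mul_apply (V F (ψ g)), ← Module.End.mul_apply (V F (ψ k⁻¹)), ← map_mul (V F), ← map_mul (V F),
            ← map_mul ψ, ← map_mul ψ]
          congr 3
          group
      _ = V F (ψ k⁻¹) (V F h w) := by rw [← h1])
  refine ⟨s, t, ?_⟩
  have h1 := congrArg (V F (ψ k)) hst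
  rw [map_add, map_smul, map_smul, hN.actA, hN.actB, h7, h8, ← Module.End.mul_apply, ← map_mul, ← map_mul,
    mul_inv_cancel, map_one, map_one] at h1
  exact h1

/-- the action of an element which normalises the image of `A_9` -/
theorem V_h (hN : Nin ψ a b c) (h2 : (2 : F) ≠ 0) (hF : FixA7 ψ a b) {h : Gh F} {σ : Perm (Fin 9)} (hI : Ind ψ h σ) :
    ∃ p q p' q' : F, (∀ i j, V F h (a i j) = p • a (σ i) (σ j) + q • b (σ i) (σ j)) ∧
      ∀ i j, V F h (b i j) = p' • a (σ i) (σ j) + q' • b (σ i) (σ j) := by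
  obtain ⟨p, q, hpq⟩ := img hN hF hI (w := a 7 8) (fun g g7 g8 => by rw [hN.actA, g7, g8])
  obtain ⟨p', q', hpq'⟩ := img hN hF hI (w := b 7 8) (fun g g7 g8 => by rw [hN.actB, g7, g8])
  refine ⟨p, q, p', q', fun i j => ?_, fun i j => ?_⟩
  · by_cases hij : i = j
    · subst hij
      rw [hN.diagA h2, hN.diagA h2, hN.diagB h2]; simp
    · obtain ⟨g, h7, h8⟩ := exists_two hij
      have h1 := ind_V hI g (a 7 8)
      have e7 : (cj σ g : Perm (Fin 9)) (σ 7) = σ i := by
        show σ ((g : Perm (Fin 9)) (σ⁻¹ (σ 7))) = σ i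
        rw [← h7]; congr 2; exact σ.symm_apply_apply 7
      have e8 : (cj σ g : Perm (Fin 9)) (σ 8) = σ j := by
        show σ ((g : Perm (Fin 9)) (σ⁻¹ (σ 8))) = σ j
        rw [← h8]; congr 2; exact σ.symm_apply_apply 8
      rw [hN.actA, h7, h8, hpq, map_add, map_smul, map_smul, hN.actA, hN.actB, e7, e8] at h1
      exact h1
  · by_cases hij : i = j
    · subst hij
      rw [hN.diagB h2, hN.diagA h2, hN.diagB h2]; simp only [_root_.map_zero, _root_.smul_zero, _root_.add_zero]
    · obtain ⟨g, h7, h8⟩ := exists_two hij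
      have h1 := ind_V hI g (b 7 8)
      have e7 : (cj σ g : Perm (Fin 9)) (σ 7) = σ i := by
        show σ ((g : Perm (Fin 9)) (σ⁻¹ (σ 7))) = σ i
        rw [← h7]; congr 2; exact σ.symm_apply_apply 7
      have e8 : (cj σ g : Perm (Fin 9)) (σ 8) = σ j := by
        show σ ((g : Perm (Fin 9)) (σ⁻¹ (σ 8))) = σ j
        rw [← h8]; congr 2; exact σ.symm_apply_apply 8
      rw [hN.actB, h7, h8, hpq', map_add, map_smul, map_smul, hN.actA, hN.actB, e7, e8] at h1
      exact h1

variable {H : Subgroup ↥(chevE7.group F)}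

/-- the span of the kernel is stable -/
theorem stab_WZ (hN : Nin ψ a b c) (h2 : (2 : F) ≠ 0) (hF : FixA7 ψ a b)
    (hC : ∀ h : Gh F, ad F h ∈ H → ∃ σ : Perm (Fin 9), Ind ψ h σ) : Stab (V F) H (WZ a b) := by
  intro h hh w hw
  obtain ⟨σ, hI⟩ := hC h hh
  obtain ⟨p, q, p', q', hA, hB⟩ := V_h hN h2 hF hI
  induction hw using Submodule.span_induction with
  | zero => rw [map_zero]; exact Submodule.zero_mem _
  | add x y _ _ hx hy => rw [map_add]; exact Submodule.add_mem _ hx hy
  | smul r x _ hx => rw [map_smul]; exact Submodule.smul_mem _ _ hx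
  | mem w hw =>
    obtain ⟨s, t, i, j, hz, rfl⟩ := hw
    have e : ∀ i j, V F h (s • a i j + t • b i j) = (s * p + t * p') • a (σ i) (σ j) + (s * q + t * q') • b (σ i) (σ j) := by
      intro i j
      rw [map_add, map_smul, map_smul, hA, hB]
      module
    refine Submodule.subset_span ⟨s * p + t * p', s * q + t * q', σ i, σ j, ?_, e i j⟩
    intro i j k
    have h1 := hz (σ⁻¹ i) (σ⁻¹ j) (σ⁻¹ k)
    have h3 : V F h (s • sg a (σ⁻¹ i) (σ⁻¹ j) (σ⁻¹ k) + t • sg b (σ⁻¹ i) (σ⁻¹ j) (σ⁻¹ k)) =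
        V F h (s • a (σ⁻¹ i) (σ⁻¹ j) + t • b (σ⁻¹ i) (σ⁻¹ j)) + V F h (s • a (σ⁻¹ j) (σ⁻¹ k) + t • b (σ⁻¹ j) (σ⁻¹ k)) +
          V F h (s • a (σ⁻¹ k) (σ⁻¹ i) + t • b (σ⁻¹ k) (σ⁻¹ i)) := by
      rw [← map_add, ← map_add]
      congr 1
      unfold sg
      module
    rw [h1, map_zero, e, e, e] at h3
    have ei : ∀ i, σ (σ⁻¹ i) = i := fun i => σ.apply_symm_apply i
    rw [ei, ei, ei] at h3
    rw [h3]
    unfold sg
    module

/-- if all the cyclic sums vanish, the 14-dimensional subspace is stable -/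
theorem stab_V7 (hN : Nin ψ a b c) (h2 : (2 : F) ≠ 0) (hF : FixA7 ψ a b)
    (hC : ∀ h : Gh F, ad F h ∈ H → ∃ σ : Perm (Fin 9), Ind ψ h σ) (hall : ∀ s t, Zc a b s t) :
    Stab (V F) H (Submodule.span F (Set.range (fun i : Fin 8 => a i.castSucc 8) ∪
      Set.range (fun i : Fin 8 => b i.castSucc 8))) := by
  set W := Submodule.span F (Set.range (fun i : Fin 8 => a i.castSucc 8) ∪ Set.range (fun i : Fin 8 => b i.castSucc 8)) with hW
  have ha8 : ∀ i, a i 8 ∈ W := by
    intro i
    induction i using Fin.lastCases with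
    | last =>
      have : a (Fin.last 8) 8 = 0 := hN.diagA h2 8
      rw [this]; exact Submodule.zero_mem _
    | cast i => exact Submodule.subset_span (Or.inl ⟨i, rfl⟩)
  have hb8 : ∀ i, b i 8 ∈ W := by
    intro i
    induction i using Fin.lastCases with
    | last =>
      have : b (Fin.last 8) 8 = 0 := hN.diagB h2 8
      rw [this]; exact Submodule.zero_mem _
    | cast i => exact Submodule.subset_span (Or.inr ⟨i, rfl⟩)
  have ha : ∀ i j, a i j ∈ W := by
    intro i j
    have h1 := hall 1 0 i j 8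
    rw [one_smul, zero_smul, add_zero] at h1
    unfold sg at h1
    rw [hN.antiA i 8] at h1
    have h3 : a i j = a i 8 - a j 8 := by
      rw [eq_sub_iff_add_eq, ← sub_eq_zero, ← h1]; abel
    rw [h3]; exact Submodule.sub_mem _ (ha8 i) (ha8 j)
  have hb : ∀ i j, b i j ∈ W := by
    intro i j
    have h1 := hall 0 1 i j 8
    rw [one_smul, zero_smul, zero_add] at h1
    unfold sg at h1
    rw [hN.antiB i 8] at h1
    have h3 : b i j = b i 8 - b j 8 := by
      rw [eq_sub_iff_add_eq, ← sub_eq_zero, ← h1]; abel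
    rw [h3]; exact Submodule.sub_mem _ (hb8 i) (hb8 j)
  intro h hh w hw
  obtain ⟨σ, hI⟩ := hC h hh
  obtain ⟨p, q, p', q', hA, hB⟩ := V_h hN h2 hF hI
  induction hw using Submodule.span_induction with
  | zero => rw [map_zero]; exact Submodule.zero_mem _
  | add x y _ _ hx hy => rw [map_add]; exact Submodule.add_mem _ hx hy
  | smul r x _ hx => rw [map_smul]; exact Submodule.smul_mem _ _ hx
  | mem w hw =>
    rcases hw with ⟨i, rfl⟩ | ⟨i, rfl⟩
    · show V F h (a i.castSucc 8) ∈ W
      rw [hA]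
      exact Submodule.add_mem _ (Submodule.smul_mem _ _ (ha _ _)) (Submodule.smul_mem _ _ (hb _ _))
    · show V F h (b i.castSucc 8) ∈ W
      rw [hB]
      exact Submodule.add_mem _ (Submodule.smul_mem _ _ (ha _ _)) (Submodule.smul_mem _ _ (hb _ _))

end

end Cfsg.Agent.R2.T1.P3
end

-- part: R2/T1/P3/Q3e
section
/-!
# S5771, box P3, step Q3: the contradiction for `n = 8` (helper3)

* `no_eight` : the configuration `Sev` with `PQ` is impossible for a maximal subgroup of type `A_8` in characteristic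
  `p ≠ 2, 5`.
-/

set_option autoImplicit false

namespace Cfsg.Agent.R2.T1.P3

open Cfsg Cfsg.Lie Module Matrix
open Cfsg.Agent.R2.T1 Cfsg.Agent.R2.T1.Mu Cfsg.Agent.R2.PX
open Cfsg.Agent.H943.E7V.Block (D1 rho)
open Cfsg.Agent.H952.F4 (MaxAlt)
open Equiv

universe u

section
variable {F K : Type u} [Field F] [Field K] (f : F →+* K) {ψ : ↥(alternatingGroup (Fin 8)) →* Gh F}
  {φ : ↥(alternatingGroup (Fin 8)) →* ↥(chevE7.group F)} {a b : Fin 8 → D1 → F} {c : F}

theorem exists_alpha [Finite F] [IsAlgClosed K] {p : ℕ} [hp : Fact p.Prime] [CharP F p] (hp2 : p ≠ 2)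
    {H : Subgroup ↥(chevE7.group F)} (hM : MaxAlt H 8 φ) (hL : Lift φ ψ) (hs : Sev ψ a b c)
    (hS : Stab (V F) H (Submodule.span F (Set.range a ∪ Set.range b))) (hP : PQ f a b) {ξ : Fin 8 → F}
    (h0 : 8 * ∑ i, ξ i ^ 2 = (∑ i, ξ i) ^ 2) (hξ : ∃ k, 8 * ξ k - ∑ i, ξ i ≠ 0) :
    ∃ α : ↥(alternatingGroup (Fin 8)), α ≠ 1 ∧ α ^ p = 1 ∧
      ∀ g : ↥(alternatingGroup (Fin 8)), (∀ i, ξ ((g : Perm (Fin 8)) i) = ξ i) → g * α = α * g := by
  have h2 : (2 : F) ≠ 0 := by
    intro h
    have h3 : ((2 : ℕ) : F) = 0 := by exact_mod_cast h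
    rw [CharP.cast_eq_zero_iff F p] at h3
    exact hp2 ((Nat.prime_dvd_prime_iff_eq hp.out Nat.prime_two).1 h3)
  obtain ⟨z, hzH, hzp, hz1, hzc⟩ := exists_z f h2 hM.coatom hs hS hP h0 hξ (p := p)
  have hodd : p % 2 = 1 := by
    rcases Nat.Prime.eq_two_or_odd hp.out with h | h
    · exact absurd h hp2
    · exact h
  have hadp : ad F z ^ p = 1 := by rw [← map_pow, hzp, map_one]
  have h4 : ad F z = (ad F z * ad F z) ^ ((p + 1) / 2) := by
    rw [← pow_two, ← pow_mul, show 2 * ((p + 1) / 2) = p + 1 by omega, pow_succ, hadp, one_mul]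
  have h5 : ad F z ∈ φ.range := by
    rw [h4]; exact pow_mem (hM.sq _ hzH) _
  obtain ⟨α, hα⟩ := h5
  refine ⟨α, ?_, ?_, ?_⟩
  · rintro rfl
    exact hz1 (by rw [← hα, map_one])
  · apply hM.inj
    rw [map_pow, hα, hadp, map_one]
  · intro g hg
    apply hM.inj
    rw [map_mul, map_mul, hα, ← hL g, ← map_mul, ← map_mul, hzc g hg]

/-- three-cycles -/
def cy (x y z : Fin 8) (h : x ≠ y ∧ y ≠ z) : ↥(alternatingGroup (Fin 8)) :=
  ⟨_root_.Equiv.swap x y * _root_.Equiv.swap y z, by
    rw [Perm.mem_alternatingGroup, Perm.sign_mul, Perm.sign_swap h.1, Perm.sign_swap h.2]; rfl⟩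

theorem comm_apply {α g : ↥(alternatingGroup (Fin 8))} (h : g * α = α * g) (i : Fin 8) :
    (g : Perm (Fin 8)) ((α : Perm (Fin 8)) i) = (α : Perm (Fin 8)) ((g : Perm (Fin 8)) i) := by
  have h1 := congrArg (fun x : ↥(alternatingGroup (Fin 8)) => (x : Perm (Fin 8)) i) h
  exact h1

theorem fix_of {α : ↥(alternatingGroup (Fin 8))} (i : Fin 8) (g1 g2 g3 : ↥(alternatingGroup (Fin 8)))
    (h1 : g1 * α = α * g1) (h2 : g2 * α = α * g2) (h3 : g3 * α = α * g3) (e1 : (g1 : Perm (Fin 8)) i = i)
    (e2 : (g2 : Perm (Fin 8)) i = i) (e3 : (g3 : Perm (Fin 8)) i ≠ i)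
    (hd : ∀ x : Fin 8, (g1 : Perm (Fin 8)) x = x → (g2 : Perm (Fin 8)) x = x → x = i ∨ (g3 : Perm (Fin 8)) x = x) :
    (α : Perm (Fin 8)) i = i := by
  have k1 := comm_apply h1 i
  have k2 := comm_apply h2 i
  have k3 := comm_apply h3 i
  rw [e1] at k1
  rw [e2] at k2
  rcases hd _ k1 k2 with h | h
  · exact h
  · rw [h] at k3
    exact absurd ((α : Perm (Fin 8)).injective k3).symm e3

/-- `p = 3` -/
theorem alpha_three {α : ↥(alternatingGroup (Fin 8))}
    (h : ∀ g : ↥(alternatingGroup (Fin 8)), (g : Perm (Fin 8)) 6 = 6 → (g : Perm (Fin 8)) 7 = 7 → g * α = α * g) :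
    α = 1 := by
  have f0 := fix_of (α := α) 0 (cy 1 2 3 (by decide)) (cy 3 4 5 (by decide)) (cy 0 1 2 (by decide))
    (h _ (by decide) (by decide)) (h _ (by decide) (by decide)) (h _ (by decide) (by decide)) (by decide) (by decide)
    (by decide) (by decide)
  have f1 := fix_of (α := α) 1 (cy 0 2 3 (by decide)) (cy 3 4 5 (by decide)) (cy 0 1 2 (by decide))
    (h _ (by decide) (by decide)) (h _ (by decide) (by decide)) (h _ (by decide) (by decide)) (by decide) (by decide)
    (by decide) (by decide)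
  have f2 := fix_of (α := α) 2 (cy 0 1 3 (by decide)) (cy 3 4 5 (by decide)) (cy 0 1 2 (by decide))
    (h _ (by decide) (by decide)) (h _ (by decide) (by decide)) (h _ (by decide) (by decide)) (by decide) (by decide)
    (by decide) (by decide)
  have f3 := fix_of (α := α) 3 (cy 0 1 2 (by decide)) (cy 2 4 5 (by decide)) (cy 3 4 5 (by decide))
    (h _ (by decide) (by decide)) (h _ (by decide) (by decide)) (h _ (by decide) (by decide)) (by decide) (by decide)
    (by decide) (by decide)
  have f4 := fix_of (α := α) 4 (cy 0 1 2 (by decide)) (cy 2 3 5 (by decide)) (cy 3 4 5 (by decide))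
    (h _ (by decide) (by decide)) (h _ (by decide) (by decide)) (h _ (by decide) (by decide)) (by decide) (by decide)
    (by decide) (by decide)
  have f5 := fix_of (α := α) 5 (cy 0 1 2 (by decide)) (cy 2 3 4 (by decide)) (cy 3 4 5 (by decide))
    (h _ (by decide) (by decide)) (h _ (by decide) (by decide)) (h _ (by decide) (by decide)) (by decide) (by decide)
    (by decide) (by decide)
  have hinj := (α : Perm (Fin 8)).injective
  have n6 : ∀ j : Fin 8, (α : Perm (Fin 8)) j = j → j ≠ 6 → (α : Perm (Fin 8)) 6 ≠ j := fun j hj hne he =>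
    hne (hinj (hj.trans he.symm))
  have n7 : ∀ j : Fin 8, (α : Perm (Fin 8)) j = j → j ≠ 7 → (α : Perm (Fin 8)) 7 ≠ j := fun j hj hne he =>
    hne (hinj (hj.trans he.symm))
  have m60 := n6 0 f0 (by decide)
  have m61 := n6 1 f1 (by decide)
  have m62 := n6 2 f2 (by decide)
  have m63 := n6 3 f3 (by decide)
  have m64 := n6 4 f4 (by decide)
  have m65 := n6 5 f5 (by decide)
  have m70 := n7 0 f0 (by decide)
  have m71 := n7 1 f1 (by decide)
  have m72 := n7 2 f2 (by decide)
  have m73 := n7 3 f3 (by decide)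
  have m74 := n7 4 f4 (by decide)
  have m75 := n7 5 f5 (by decide)
  have m67 : (α : Perm (Fin 8)) 6 ≠ (α : Perm (Fin 8)) 7 := fun h => absurd (hinj h) (by decide)
  have c67 : ((α : Perm (Fin 8)) 6 = 6 ∧ (α : Perm (Fin 8)) 7 = 7) ∨
      ((α : Perm (Fin 8)) 6 = 7 ∧ (α : Perm (Fin 8)) 7 = 6) := by
    generalize (α : Perm (Fin 8)) 6 = x at *
    generalize (α : Perm (Fin 8)) 7 = y at *
    clear f0 f1 f2 f3 f4 f5 hinj n6 n7 h
    clear α
    revert m60 m61 m62 m63 m64 m65 m70 m71 m72 m73 m74 m75 m67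
    revert x y
    decide +kernel
  rcases c67 with ⟨h6, h7⟩ | ⟨h6, h7⟩
  · apply Subtype.ext
    ext i
    fin_cases i
    · exact congrArg Fin.val f0
    · exact congrArg Fin.val f1
    · exact congrArg Fin.val f2
    · exact congrArg Fin.val f3
    · exact congrArg Fin.val f4
    · exact congrArg Fin.val f5
    · exact congrArg Fin.val h6
    · exact congrArg Fin.val h7
  · exfalso
    have h8 : (α : Perm (Fin 8)) = swap 6 7 := by
      ext i
      fin_cases i
      · exact congrArg Fin.val f0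
      · exact congrArg Fin.val f1
      · exact congrArg Fin.val f2
      · exact congrArg Fin.val f3
      · exact congrArg Fin.val f4
      · exact congrArg Fin.val f5
      · exact congrArg Fin.val h6
      · exact congrArg Fin.val h7
    have h9 := Perm.mem_alternatingGroup.1 α.2
    rw [h8, Perm.sign_swap (by decide)] at h9
    exact absurd h9 (by decide)

/-- `p = 7` -/
theorem alpha_seven {α : ↥(alternatingGroup (Fin 8))} (h7 : α ^ 7 = 1)
    (h : ∀ g : ↥(alternatingGroup (Fin 8)), (g : Perm (Fin 8)) 0 = 0 → (g : Perm (Fin 8)) 1 = 1 →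
      (g : Perm (Fin 8)) 2 = 2 → g * α = α * g) : α = 1 := by
  have f3 := fix_of (α := α) 3 (cy 4 5 6 (by decide)) (cy 5 6 7 (by decide)) (cy 3 4 5 (by decide))
    (h _ (by decide) (by decide) (by decide)) (h _ (by decide) (by decide) (by decide))
    (h _ (by decide) (by decide) (by decide)) (by decide) (by decide) (by decide) (by decide)
  have f4 := fix_of (α := α) 4 (cy 3 5 6 (by decide)) (cy 5 6 7 (by decide)) (cy 3 4 5 (by decide))
    (h _ (by decide) (by decide) (by decide)) (h _ (by decide) (by decide) (by decide))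
    (h _ (by decide) (by decide) (by decide)) (by decide) (by decide) (by decide) (by decide)
  have f5 := fix_of (α := α) 5 (cy 3 4 6 (by decide)) (cy 4 6 7 (by decide)) (cy 3 4 5 (by decide))
    (h _ (by decide) (by decide) (by decide)) (h _ (by decide) (by decide) (by decide))
    (h _ (by decide) (by decide) (by decide)) (by decide) (by decide) (by decide) (by decide)
  have f6 := fix_of (α := α) 6 (cy 3 4 5 (by decide)) (cy 4 5 7 (by decide)) (cy 4 5 6 (by decide))
    (h _ (by decide) (by decide) (by decide)) (h _ (by decide) (by decide) (by decide))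
    (h _ (by decide) (by decide) (by decide)) (by decide) (by decide) (by decide) (by decide)
  have f7 := fix_of (α := α) 7 (cy 3 4 5 (by decide)) (cy 4 5 6 (by decide)) (cy 4 5 7 (by decide))
    (h _ (by decide) (by decide) (by decide)) (h _ (by decide) (by decide) (by decide))
    (h _ (by decide) (by decide) (by decide)) (by decide) (by decide) (by decide) (by decide)
  have hinj := (α : Perm (Fin 8)).injective
  have n : ∀ i j : Fin 8, (α : Perm (Fin 8)) j = j → j ≠ i → (α : Perm (Fin 8)) i ≠ j := fun i j hj hne he =>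
    hne (hinj (hj.trans he.symm))
  have e7 : ∀ i : Fin 8, (α : Perm (Fin 8)) ((α : Perm (Fin 8)) ((α : Perm (Fin 8)) ((α : Perm (Fin 8))
      ((α : Perm (Fin 8)) ((α : Perm (Fin 8)) ((α : Perm (Fin 8)) i)))))) = i := by
    intro i
    have h8 := congrArg (fun x : ↥(alternatingGroup (Fin 8)) => (x : Perm (Fin 8)) i) h7
    exact h8
  have r : ∀ i : Fin 8, i = 0 ∨ i = 1 ∨ i = 2 → (α : Perm (Fin 8)) i = 0 ∨ (α : Perm (Fin 8)) i = 1 ∨ (α : Perm (Fin 8)) i = 2 := by
    intro i hi
    have m3 := n i 3 f3 (by rcases hi with rfl | rfl | rfl <;> decide)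
    have m4 := n i 4 f4 (by rcases hi with rfl | rfl | rfl <;> decide)
    have m5 := n i 5 f5 (by rcases hi with rfl | rfl | rfl <;> decide)
    have m6 := n i 6 f6 (by rcases hi with rfl | rfl | rfl <;> decide)
    have m7 := n i 7 f7 (by rcases hi with rfl | rfl | rfl <;> decide)
    generalize (α : Perm (Fin 8)) i = x at *
    clear hi f3 f4 f5 f6 f7 hinj n h e7 h7
    have hx := x.2
    simp only [Fin.ext_iff, ne_eq] at m3 m4 m5 m6 m7 ⊢
    have c0 : ((0 : Fin 8) : ℕ) = 0 := rfl
    have c1 : ((1 : Fin 8) : ℕ) = 1 := rfl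
    have c2 : ((2 : Fin 8) : ℕ) = 2 := rfl
    have c3 : ((3 : Fin 8) : ℕ) = 3 := rfl
    have c4 : ((4 : Fin 8) : ℕ) = 4 := rfl
    have c5 : ((5 : Fin 8) : ℕ) = 5 := rfl
    have c6 : ((6 : Fin 8) : ℕ) = 6 := rfl
    have c7 : ((7 : Fin 8) : ℕ) = 7 := rfl
    omega
  have d01 : (α : Perm (Fin 8)) 0 ≠ (α : Perm (Fin 8)) 1 := fun h => absurd (hinj h) (by decide)
  have d02 : (α : Perm (Fin 8)) 0 ≠ (α : Perm (Fin 8)) 2 := fun h => absurd (hinj h) (by decide)
  have d12 : (α : Perm (Fin 8)) 1 ≠ (α : Perm (Fin 8)) 2 := fun h => absurd (hinj h) (by decide)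
  have e0 := e7 0
  have e1 := e7 1
  have e2 := e7 2
  have fin : (α : Perm (Fin 8)) 0 = 0 ∧ (α : Perm (Fin 8)) 1 = 1 ∧ (α : Perm (Fin 8)) 2 = 2 := by
    rcases r 0 (Or.inl rfl) with h0 | h0 | h0 <;> rcases r 1 (Or.inr (Or.inl rfl)) with h1 | h1 | h1 <;>
      rcases r 2 (Or.inr (Or.inr rfl)) with h2 | h2 | h2 <;>
      [exact absurd (h0.trans h1.symm) d01; exact absurd (h0.trans h1.symm) d01; exact absurd (h0.trans h1.symm) d01; exact absurd (h0.trans h2.symm) d02;
       exact absurd (h1.trans h2.symm) d12; exact ⟨h0, h1, h2⟩; exact absurd (h0.trans h2.symm) d02;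
       (exfalso; simp only [h0, h1, h2] at e1; exact absurd e1 (by decide)); exact absurd (h1.trans h2.symm) d12; exact absurd (h1.trans h2.symm) d12;
       exact absurd (h0.trans h2.symm) d02; (exfalso; simp only [h0, h1, h2] at e0; exact absurd e0 (by decide)); exact absurd (h0.trans h1.symm) d01;
       exact absurd (h0.trans h1.symm) d01; exact absurd (h0.trans h1.symm) d01; (exfalso; simp only [h0, h1, h2] at e0; exact absurd e0 (by decide));
       exact absurd (h0.trans h2.symm) d02; exact absurd (h1.trans h2.symm) d12; exact absurd (h1.trans h2.symm) d12;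
       (exfalso; simp only [h0, h1, h2] at e0; exact absurd e0 (by decide)); exact absurd (h0.trans h2.symm) d02;
       (exfalso; simp only [h0, h1, h2] at e0; exact absurd e0 (by decide)); exact absurd (h1.trans h2.symm) d12; exact absurd (h0.trans h2.symm) d02;
       exact absurd (h0.trans h1.symm) d01; exact absurd (h0.trans h1.symm) d01; exact absurd (h0.trans h1.symm) d01]
  apply Subtype.ext
  ext i
  fin_cases i
  · exact congrArg Fin.val fin.1
  · exact congrArg Fin.val fin.2.1
  · exact congrArg Fin.val fin.2.2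
  · exact congrArg Fin.val f3
  · exact congrArg Fin.val f4
  · exact congrArg Fin.val f5
  · exact congrArg Fin.val f6
  · exact congrArg Fin.val f7

/-- **the contradiction for `n = 8`** -/
theorem no_eight [Finite F] [IsAlgClosed K] {p : ℕ} [hp : Fact p.Prime] [CharP F p] (hp2 : p ≠ 2) (hp5 : p ≠ 5)
    {H : Subgroup ↥(chevE7.group F)} (hM : MaxAlt H 8 φ) (hL : Lift φ ψ) (hs : Sev ψ a b c)
    (hS : Stab (V F) H (Submodule.span F (Set.range a ∪ Set.range b))) (hP : PQ f a b) : False := by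
  have hcast : ∀ n : ℕ, p ∣ n → (n : F) = 0 := fun n hn => (CharP.cast_eq_zero_iff F p n).2 hn
  by_cases h3 : p = 3
  · subst h3
    have h30 : (3 : F) = 0 := by exact_mod_cast hcast 3 (dvd_refl 3)
    obtain ⟨α, h1, -, hc⟩ := exists_alpha f (by decide) hM hL hs hS hP
      (ξ := fun i => if i = 6 ∨ i = 7 then 1 else 0) (by
        simp only [Fin.sum_univ_eight]
        simp only [_root_.Fin.isValue, _root_.Fin.reduceEq, _root_.or_self, ↓ _root_.reduceIte, _root_.ne_eq, _root_.OfNat.ofNat_ne_zero, _root_.not_false_eq_true, _root_.zero_pow, _root_.add_zero, _root_.or_false, _root_.one_pow, _root_.zero_add, _root_.or_true]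
        linear_combination 4 * h30) ⟨0, by
        simp only [Fin.sum_univ_eight]
        simp only [_root_.Fin.isValue, _root_.Fin.reduceEq, _root_.or_self, ↓ _root_.reduceIte, _root_.MulZeroClass.mul_zero, _root_.add_zero, _root_.or_false, _root_.zero_add, _root_.or_true, _root_.zero_sub, _root_.neg_add_rev, _root_.ne_eq]
        intro h
        apply one_ne_zero (α := F)
        linear_combination h30 + h⟩
    refine h1 (alpha_three fun g h6 h7 => hc g fun i => ?_)
    by_cases hi : i = 6 ∨ i = 7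
    · rcases hi with rfl | rfl
      · rw [h6]
      · rw [h7]
    · have h8 : ¬ ((g : Perm (Fin 8)) i = 6 ∨ (g : Perm (Fin 8)) i = 7) := by
        rintro (h | h)
        · exact hi (Or.inl ((g : Perm (Fin 8)).injective (h.trans h6.symm)))
        · exact hi (Or.inr ((g : Perm (Fin 8)).injective (h.trans h7.symm)))
      rw [if_neg hi, if_neg h8]
  by_cases h7 : p = 7
  · subst h7
    have h70 : (7 : F) = 0 := by exact_mod_cast hcast 7 (dvd_refl 7)
    obtain ⟨α, h1, h77, hc⟩ := exists_alpha f (by decide) hM hL hs hS hP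
      (ξ := fun i => if i = 0 then 1 else if i = 1 then 2 else if i = 2 then 4 else 0) (by
        simp only [Fin.sum_univ_eight]
        simp only [↓ _root_.reduceIte, _root_.one_pow, _root_.Fin.isValue, _root_.one_ne_zero, _root_.Fin.reduceEq, _root_.ne_eq, _root_.OfNat.ofNat_ne_zero, _root_.not_false_eq_true, _root_.zero_pow, _root_.add_zero]
        linear_combination 17 * h70) ⟨0, by
        simp only [Fin.sum_univ_eight]
        simp only [↓ _root_.reduceIte, _root_.mul_one, _root_.Fin.isValue, _root_.one_ne_zero, _root_.Fin.reduceEq, _root_.add_zero, _root_.ne_eq]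
        intro h
        apply one_ne_zero (α := F)
        linear_combination h⟩
    refine h1 (alpha_seven h77 fun g e0 e1 e2 => hc g fun i => ?_)
    by_cases h0 : i = 0
    · subst h0; rw [e0]
    by_cases h1 : i = 1
    · subst h1; rw [e1]
    by_cases h2 : i = 2
    · subst h2; rw [e2]
    have k0 : (g : Perm (Fin 8)) i ≠ 0 := fun h => h0 ((g : Perm (Fin 8)).injective (h.trans e0.symm))
    have k1 : (g : Perm (Fin 8)) i ≠ 1 := fun h => h1 ((g : Perm (Fin 8)).injective (h.trans e1.symm))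
    have k2 : (g : Perm (Fin 8)) i ≠ 2 := fun h => h2 ((g : Perm (Fin 8)).injective (h.trans e2.symm))
    rw [if_neg h0, if_neg h1, if_neg h2, if_neg k0, if_neg k1, if_neg k2]
  · -- `p ≥ 11`
    obtain ⟨x, y, hxy⟩ := CharP.sq_add_sq F p (-1)
    have h2 : (2 : F) ≠ 0 := by
      intro h
      have h3 : ((2 : ℕ) : F) = 0 := by exact_mod_cast h
      rw [CharP.cast_eq_zero_iff F p] at h3
      exact hp2 ((Nat.prime_dvd_prime_iff_eq hp.out Nat.prime_two).1 h3)
    have h8 : (8 : F) ≠ 0 := by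
      have : (8 : F) = 2 * 2 * 2 := by norm_num
      rw [this]; exact mul_ne_zero (mul_ne_zero h2 h2) h2
    obtain ⟨α, h1, hα, -⟩ := exists_alpha f hp2 hM hL hs hS hP
      (ξ := ![1, -1, x, -x, y, -y, 0, 0]) (by
        simp only [Fin.sum_univ_eight]
        simp only [_root_.Fin.isValue, _root_.Matrix.cons_val_zero, _root_.one_pow, _root_.Matrix.cons_val_one, _root_.even_two, _root_.Even.neg_pow, _root_.Matrix.cons_val, _root_.ne_eq, _root_.OfNat.ofNat_ne_zero, _root_.not_false_eq_true, _root_.zero_pow, _root_.add_zero, _root_.add_neg_cancel, _root_.zero_add, _root_.mul_eq_zero]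
        push_cast at hxy
        refine Or.inr ?_
        linear_combination 2 * hxy) ⟨0, by
        simp only [Fin.sum_univ_eight]
        simp only [_root_.Fin.isValue, _root_.Matrix.cons_val_zero, _root_.mul_one, _root_.Matrix.cons_val_one, _root_.add_neg_cancel, _root_.Matrix.cons_val, _root_.zero_add, _root_.add_zero, _root_.sub_zero, _root_.ne_eq]
        exact h8⟩
    have hα' : (α : Perm (Fin 8)) ^ p = 1 := congrArg Subtype.val hα
    have h1' : (α : Perm (Fin 8)) ≠ 1 := fun h => h1 (Subtype.ext h)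
    have h9 : orderOf (α : Perm (Fin 8)) = p := orderOf_eq_prime hα' h1'
    have h10 : p ∣ (8).factorial := by
      rw [← h9]
      refine (orderOf_dvd_natCard (α : Perm (Fin 8))).trans ?_
      rw [Nat.card_perm, Nat.card_fin]
    have h11 := (Nat.Prime.dvd_factorial hp.out).1 h10
    have h12 := hp.out.two_le
    have h13 := hp.out
    interval_cases p
    · exact hp2 rfl
    · exact h3 rfl
    · exact absurd h13 (by decide)
    · exact hp5 rfl
    · exact absurd h13 (by decide)
    · exact h7 rfl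
    · exact absurd h13 (by decide)

end

end Cfsg.Agent.R2.T1.P3
end
end

-- part: R2/PX/C/Dn
section
prune_inst 0x200040403122000000180002220000001c00009000000000f0c00f420a477000a94329005ab01d0280eea6c478300000000001400000000000000000011801a0900052001300a104260001802000000000000000000000000000000000041004000000000
set_option linter.all false
open scoped Cfsg.Agent.FastGrp

/-- decoders of the packed data (elaboration time only) -/
private noncomputable def pk61d (b S i : Nat) : Nat := Nat.mod (Nat.shiftRight S (Nat.mul b i)) (Nat.shiftLeft (nat_lit 1) b)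
private noncomputable def pk61f {α : Type} (t : Nat) (f : Nat → α) : α := Nat.rec (f Nat.zero) (fun k _ => f (Nat.succ k)) t
private noncomputable def pk61l {α : Type} (f : Nat → α) (s e : Nat) (tl : List α) : List α :=
  pk61f e fun e => Nat.rec tl (fun k ih => List.cons (pk61f (Nat.sub e (Nat.succ k)) f) ih) (Nat.sub e s)

-- part: R2/PX/C/Vec
section
/-!
# Pattern X, Part C: vectors as lists (helper3)

* `lv F L` : the vector of a list of 56 residues modulo 5 (in the order of `W56`); `pl R` : the list of a packed vector;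
* `ax r t L` : the action of the root element `xs r t`; `V_ax`.
-/

set_option autoImplicit false
set_option maxRecDepth 100000

namespace Cfsg.Agent.R2.PX.C

open Cfsg Cfsg.Lie Matrix
open Cfsg.Agent.R2.T1 Cfsg.Agent.R2.PX
open Cfsg.Agent.ChevalleyStructure.Elts Cfsg.Agent.ChevalleyStructure.RootVec
  Cfsg.Agent.ChevalleyStructure.RootVecTab
open Cfsg.Agent.H943.E7V.Block (D1 rho)

universe u
variable {F : Type u} [Field F]

/-- the packed table of positions -/
def PSN : ℕ := 0x37363534333231302f2e2d2c002b2a2928272600252423220021201f001e1d001c00001b1a1900181700160000151400130000120000001110000f00000e0000000d000000000c0000000000000b0a00090000080000000700000000060000000000050000000000040000000003000000020000010000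

/-- the packed table of opposite weights and signs -/
def OPN : ℕ := 0xf100f500fb0103010d01190125012e0137013c0141014200000151015a01630168016d016e00000176017d0180018300000188018d018e0000019201950000019600000000019d01a001a3000001a701a8000001ab0000000001ae01b1000001b20000000001b500000000000001b901ba000001bd0000000001be00000000000001c1000000000000000001c200000000000000000000000001c701c8000001cb0000000001cc00000000000001cf000000000000000001d00000000000000000000001d20000000000000000000001d4000000000000000001d600000000000001d80000000001da000001dc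

/-- the position of a weight -/
def ps (s : ℕ) : ℕ := Nat.land (Nat.shiftRight PSN (8 * (s - 120))) 255

theorem chkPs : (W56.all fun s => Nat.blt (ps s) 56 && Nat.beq (W56.getD (ps s) 0) s) = true := by decide +kernel

theorem chkOPN : (W56.all fun s => Nat.beq (lk OPN (s - 120)) (code (some (st s)))) = true := by decide +kernel

theorem ps_lt (a : D1) : ps (nn a) < 56 := by
  have h := List.all_eq_true.1 chkPs (nn a) (nn_mem a)
  rw [Bool.and_eq_true, Nat.blt_eq] at h
  exact h.1

theorem W56_ps (a : D1) : W56.getD (ps (nn a)) 0 = nn a := by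
  have h := List.all_eq_true.1 chkPs (nn a) (nn_mem a)
  rw [Bool.and_eq_true] at h
  exact Nat.eq_of_beq_eq_true h.2

theorem len_W56 : W56.length = 56 := by decide +kernel

variable (F)

/-- the vector of a list -/
def lv (L : List ℕ) : D1 → F := fun a => ((L.getD (ps (nn a)) 0 : ℕ) : F)

variable {F}

theorem lv_apply (L : List ℕ) (a : D1) : lv F L a = ((L.getD (ps (nn a)) 0 : ℕ) : F) := rfl

/-- the list of a function on the weights -/
def fl (f : ℕ → ℕ) : List ℕ := W56.map f

theorem lv_fl (f : ℕ → ℕ) (a : D1) : lv F (fl f) a = ((f (nn a) : ℕ) : F) := by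
  have h : (W56.map f).getD (ps (nn a)) 0 = f (W56.getD (ps (nn a)) 0) := by
    have h1 := ps_lt a
    rw [List.getD_eq_getElem _ _ (by rw [List.length_map, len_W56]; exact h1), List.getElem_map,
      List.getD_eq_getElem _ _ (by rw [len_W56]; exact h1)]
  rw [lv_apply, fl, h, W56_ps]

/-- packed vectors: 4 bits for each weight -/
def pa (R s : ℕ) : ℕ := Nat.land (Nat.shiftRight R (4 * (s - 120))) 15

/-- the list of a packed vector -/
def pl (R : ℕ) : List ℕ := fl (pa R)

theorem lv_pl (R : ℕ) (a : D1) : lv F (pl R) a = ((pa R (nn a) : ℕ) : F) := lv_fl _ a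

/-! ### residues modulo 5 -/

theorem castmod [CharP F 5] (n : ℕ) : ((n % 5 : ℕ) : F) = (n : F) := by
  have h5 : (5 : F) = 0 := five_zero
  conv_rhs => rw [← Nat.div_add_mod n 5]
  push_cast
  rw [h5]; ring

/-- the sign of a code as a residue -/
def sn (k : ℕ) : ℕ := bif Nat.beq (k % 2) 0 then 1 else 4

theorem sn_cast [CharP F 5] (k : ℕ) : ((sn k : ℕ) : F) = se F k := by
  have h5 : (5 : F) = 0 := five_zero
  unfold sn se
  rcases Nat.mod_two_eq_zero_or_one k with h | h
  · rw [h, show Nat.beq 0 0 = true from rfl, cond_true, if_pos rfl]; simp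
  · rw [h, show Nat.beq 1 0 = false from rfl, cond_false, if_neg (by norm_num)]
    push_cast
    linear_combination h5

/-- the coordinate of `N_r w` at `a`, from the code of `-r` at `a` -/
theorem NM_code {r : ℕ} (hr : r < 126) (w : D1 → F) (a : D1) :
    (lk (PT.getD (125 - r) 0) (nn a - 120) = 0 ∧ (NM F r *ᵥ w) a = 0) ∨
    (lk (PT.getD (125 - r) 0) (nn a - 120) ≠ 0 ∧ ∃ b : D1, lk (PT.getD (125 - r) 0) (nn a - 120) / 2 = nn b ∧
      (NM F r *ᵥ w) a = se F (lk (PT.getD (125 - r) 0) (nn a - 120)) * w b) := by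
  have hr' : 125 - r < 126 := by omega
  rcases mv_spec hr' a with h | ⟨b, c, h, h1, -, h2⟩
  · left
    have h0 := (mv_none_iff hr' a).1 h
    refine ⟨h0, ?_⟩
    by_contra hne
    obtain ⟨b, c, h3, -⟩ := NM_mulVec_ne hne
    rcases mv_spec hr b with h4 | ⟨a', c', h4, -, -, h5⟩
    · rw [h4] at h3; simp at h3
    · rw [h3, Option.some.injEq, Prod.mk.injEq] at h4
      rw [← h4.1, h] at h5
      simp at h5
  · right
    have h0 : lk (PT.getD (125 - r) 0) (nn a - 120) ≠ 0 := fun h' => by
      have := (mv_none_iff hr' a).2 h'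
      rw [h] at this; simp at this
    refine ⟨h0, b, ?_, ?_⟩
    · rw [lk_PT hr', h]
      unfold code
      dsimp only
      cases (c == 1)
      · show (2 * nn b + 1) / 2 = _; omega
      · show (2 * nn b + 0) / 2 = _; omega
    · rw [sub_sub_r hr] at h2
      rw [NM_mulVec hr h2, lk_PT hr', h]
      congr 1
      rcases sq_cases h1 with rfl | rfl
      · show ((1 : ℤ) : F) = se F (2 * nn b + 0)
        unfold se
        rw [if_pos (by omega)]; simp
      · show ((-1 : ℤ) : F) = se F (2 * nn b + 1)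
        unfold se
        rw [if_neg (by omega)]; simp

/-! ### the root elements -/

/-- the element of a word -/
def gw (F : Type u) [Field F] (w : List (ℕ × ℕ)) : Gh F := (w.map fun x => xs F x.1 ((x.2 : ℕ) : F)).prod

end Cfsg.Agent.R2.PX.C
end

-- part: R2/PX/C/Dn
section
/-!
# Pattern X, Part C: the evaluation of `DD` (helper3)

* `chkQ A B Q` : `dd` of the packed vectors `A`, `B` is the packed vector `Q`;
* `chkD Q C E` : `Q` maps `C` to `E`;
* `DD_eval`.
-/

set_option autoImplicit false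
set_option maxRecDepth 100000

namespace Cfsg.Agent.R2.PX.C

open Cfsg Cfsg.Lie Matrix
open Cfsg.Agent.R2.T1 Cfsg.Agent.R2.PX
open Cfsg.Agent.ChevalleyStructure.Elts Cfsg.Agent.ChevalleyStructure.RootVec
  Cfsg.Agent.ChevalleyStructure.RootVecTab
open Cfsg.Agent.H943.E7V.Block (D1 rho)

universe u
variable {F : Type u} [Field F]

/-- the rows of the root vectors: for `r` the list of `(u, k)`, `k` the code of `-r` at `u` -/
noncomputable def RWT : List (List (ℕ × ℕ)) :=
  let y0 : List (List (ℕ × ℕ)) := (by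
  refine (?fq9001 : (pk61l (fun i0 => (pk61l (fun i1 => (_root_.Prod.mk (pk61d (nat_lit 8) 
    (nat_lit 0xeeedecebeae9e8e7e6e5e4e3eeedecebeae8e1e0dfdedddceeedecebe9e7e1e0dad9d8d7eeedeceae9e6e1dfdad5d4d3eeedebeae9e5e1ded9d5d1d0eeecebeae9e4e1ddd8d4d1ceedecebeae9e3e1dcd7d3d0ceeeedece8e7e6e0dfdacbcac9eeedebe8e7e5e0ded9cbc7c6eeecebe8e7e4e0ddd8cac7c4) i1) (pk61d (nat_lit 9) 
    (nat_lit 0xa1502793697492310d813ede8f1b75b2d162ad542490d813ede8f1c1e06fb77ad5425f19813ede8f1c76331177b1d426d19863ede8f1cae4f117cb45427b198640de8f1cb64f1b81b6d4281198640df4f1cb6531d82b754287198640df4f5d1e873b77b1d6e6d2e923ede8f1d469b3b7cb456e7b2e9240de8f1d5e9b4181b6d6e812e9240df4f1) i1))) (Nat.mul (nat_lit 12) i0) (Nat.mul (nat_lit 12) (Nat.succ i0)) List.nil)) (nat_lit 0) (nat_lit 10) List.nil : List (List (ℕ × ℕ)))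
    = ?xq9001 → (List (List (ℕ × ℕ)))) ?hq9001; (case hq9001 => (set_option maxRecDepth 1000000 in set_option simprocs false in conv => lhs; reduce; dsimp only)); intro _; exact ?xq9001 : List (List (ℕ × ℕ)))
  let y1 : List (List (ℕ × ℕ)) := (by
  refine (?fq9002 : (fun tl : List (List (ℕ × ℕ)) => pk61l (fun i0 => (pk61l (fun i1 => (_root_.Prod.mk (pk61d (nat_lit 8) 
    (nat_lit 0xedecebe8e7e3e0dcd7c9c6c4eeedeae8e6e5dfded5cbc1c0eeeceae8e6e4dfddd4cac1beedeceae8e6e3dfdcd3c9c0beeeebeae8e5e4deddd1c7c1bbedebeae8e5e3dedcd0c6c0bbecebeae8e4e3dddccec4bebbeeede9e7e6e5dad9d5cbb7b6eeece9e7e6e4dad8d4cab7b4edece9e7e6e3dad7d3c9b6b4eeebe9e7e5e4d9d8d1c7b7b1edebe9e7e5e3d9d7d0c6b6b1ecebe9e7e4e3d8d7cec4b4b1eeeae9e6e5e4d5d4d1c1b7adedeae9e6e5e3d5d3d0c0b6adeceae9e6e4e3d4d3cebeb4adebeae9e5e4e3d1d0cebbb1adeee8e7e6e5e4cbcac7c1b7a8ede8e7e6e5e3cbc9c6c0b6a8ece8e7e6e4e3cac9c4beb4a8ebe8e7e5e4e3c7c6c4bbb1a8eae8e6e5e4e3c1c0bebbada8e9e7e6e5e4e3b7b6b4b1ada8eeede1e0dfdedad9d5cba1a0eeece1e0dfdddad8d4caa19eedece1e0dfdcdad7d3c9a09eeeebe1e0deddd9d8d1c7a19bedebe1e0dedcd9d7d0c6a09becebe1e0dddcd8d7cec49e9b)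 i1) (pk61d (nat_lit 9) 
    (nat_lit 0xd5ea74782b756e872e9240df4f5d8ebf3b89b458a7b3792435e8f1d96bf418cb6d8a813792435f4f1d96c3478fb758a873792435f4f5daebf4f93b6da6813c9243604f1daec35194b75a6873c9243604f5daecf5797b75b287419243604fbdd6e33b89bedde7b3797c65e8f1deee3418cc05de813797c65f4f1deeef478fc1dde873797c65f4f5df6e34f93c05f2813c97c6604f1df6ef5194c1df2873c97c6604f5df6f35797c1e06874197c6604fbe0ee35d93c6e26813c9b46618f1e0eef6394c7626873c9b46618f5e0ef36597c763287419b46618fbe0eff6b97cae4e87419ec661903e16e35da6d0672813c9b4ba48f1e16ef63a9d1e72873c9b4ba48f5e16f365aad1e8687419b4ba48fbe16ff6baad469a87419ecba4903e17036bb3d8ebe87419ecde490de17037dbcdd6e287419ecde5f19e471b3988be5dad162ad541e8f1e5f1b438dc0ddadb62ad541f4f1e5f27458ec15dadd62ad541f4f5e671b4d92c0df6db69ad54204f1e67275395c15f6dd69ad54204f5e672b5596c1602dd6cad54204fb) i1))) (Nat.mul (nat_lit 12) i0) (Nat.mul (nat_lit 12) (Nat.succ i0)) List.nil)) (nat_lit 0) (nat_lit 29) tl)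
    = ?xq9002 → (List (List (ℕ × ℕ)))) ?hq9002; (case hq9002 => (set_option maxRecDepth 1000000 in set_option simprocs false in conv => lhs; reduce; dsimp only)); intro _; exact ?xq9002 y0 : List (List (ℕ × ℕ)))
  let y2 : List (List (ℕ × ℕ)) := (by
  refine (?fq9003 : (fun tl : List (List (ℕ × ℕ)) => pk61l (fun i0 => (pk61l (fun i1 => (_root_.Prod.mk (pk61d (nat_lit 8) 
    (nat_lit 0xeeeae1dfdeddd5d4d1c1a197edeae1dfdedcd5d3d0c0a097eceae1dfdddcd4d3cebe9e97ebeae1dedddcd1d0cebb9b97eee9e1dad9d8d5d4d1b7a192ede9e1dad9d7d5d3d0b6a092ece9e1dad8d7d4d3ceb49e92ebe9e1d9d8d7d1d0ceb19b92eae9e1d5d4d3d1d0cead9792eee8e0dfdeddcbcac7c1a18cede8e0dfdedccbc9c6c0a08cece8e0dfdddccac9c4be9e8cebe8e0dedddcc7c6c4bb9b8ceae8dfdedddcc1c0bebb978ceee7e0dad9d8cbcac7b7a186ede7e0dad9d7cbc9c6b6a086ece7e0dad8d7cac9c4b49e86ebe7e0d9d8d7c7c6c4b19b86eee6dfdad5d4cbcac1b7a181ede6dfdad5d3cbc9c0b6a081ece6dfdad4d3cac9beb49e81eee5ded9d5d1cbc7c1b7a17dede5ded9d5d0cbc6c0b6a07deee4ddd8d4d1cac7c1b7a17aede3dcd7d3d0c9c6c0b6a078ece4ddd8d4cecac4beb49e7aece3dcd7d3cec9c4beb49e78ebe5ded9d1d0c7c6bbb19b7debe4ddd8d1cec7c4bbb19b7a)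 i1) (pk61d (nat_lit 9) 
    (nat_lit 0xe7f1b5f92c6622db69b1d4218f1e7f276195c7e22dd69b1d4218f5e7f2b6796c7e36dd6cb1d4218fbe7f376996ca64add6cb45421903e871b7192c6623017cbb54230f1e87277795c7e23077cbb54230f5e872b7996c7e370781bb54230fbe87377f96ca64b0781bed423103e873b8196ca64b1d8cc4542310de971b5fa7d0e76db69b1d6e48f1e972761a8d1676dd69b1d6e48f5e972b67abd1682dd6cb1d6e48fbe973769abd4e9edd6cb456e4903e973b69b2d86badd6cb458a490dea71f73a6d0673037dbbd6a5cf1ea72375a9d1e73057dbbd6a5cf5ea72f7baad1e870580bbd6a5cfbea7337daad469b0580be56a5d03eb71b71aed0e771b89bb58a6cf1eb72777b1d16771d89bb58a6cf5eb72b79b2d16831d8cbb58a6cfbec71f73afd3e732788be5a278f1ec72375b0d46732988be5a278f5ed71b71aed3683258cc05b280f1ee72375b0d468b298ec15ba84f5ed72b79b2d56832d8cc05b280fbee72f7bb3d5e8b2f8ec15ba84fbec7337db4d469b2992be5a27903ed7377fb5d569f2d93c05b28103) i1))) (Nat.mul (nat_lit 12) i0) (Nat.mul (nat_lit 12) (Nat.succ i0)) List.nil)) (nat_lit 0) (nat_lit 29) tl)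
    = ?xq9003 → (List (List (ℕ × ℕ)))) ?hq9003; (case hq9003 => (set_option maxRecDepth 1000000 in set_option simprocs false in conv => lhs; reduce; dsimp only)); intro _; exact ?xq9003 y1 : List (List (ℕ × ℕ)))
  let y3 : List (List (ℕ × ℕ)) := (by
  refine (?fq9004 : (fun tl : List (List (ℕ × ℕ)) => pk61l (fun i0 => (pk61l (fun i1 => (_root_.Prod.mk (pk61d (nat_lit 8) 
    (nat_lit 0xebe3dcd7d0cec6c4bbb19b78eae6dfd5d4d3c1c0bead9781eae5ded5d1d0c1c0bbad977deae4ddd4d1cec1bebbad977aeae3dcd3d0cec0bebbad9778e9e7dad9d8d7b7b6b4b19286e9e6dad5d4d3b7b6b4ad9281e9e5d9d5d1d0b7b6b1ad927de9e4d8d4d1ceb7b4b1ad927ae9e3d7d3d0ceb6b4b1ad9278e8e7e0cbcac9c7c6c4a88c86e8e6dfcbcac9c1c0bea88c81e8e5decbc7c6c1c0bba88c7de8e4ddcac7c4c1bebba88c7ae8e3dcc9c6c4c0bebba88c78e7e6dacbcac9b7b6b4a88681e7e5d9cbc7c6b7b6b1a8867de7e4d8cac7c4b7b4b1a8867ae7e3d7c9c6c4b6b4b1a88678e6e5d5cbc1c0b7b6ada8817de6e4d4cac1beb7b4ada8817ae6e3d3c9c0beb6b4ada88178e5e4d1c7c1bbb7b1ada87d7ae5e3d0c6c0bbb6b1ada87d78e4e3cec4bebbb4b1ada87a78e1e0dfdedddca1a09e9b978ce1e0dad9d8d7a1a09e9b9286e1dfdad5d4d3a1a09e979281e1ded9d5d1d0a1a09b97927d)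 i1) (pk61d (nat_lit 9) 
    (nat_lit 0xee7337db4d5ea72f95c15ba8503eb73b81b2d86bb1d8cc458a6d0dec73f83b4d8ebf2992c4da2790ded73b81b5d9ebb2d93c6db2810dee73f83b4d96c32f95c7dba850dea7437dbcdd6e30580be5da5d19eb74781bdddee71d8cc45de6d19ec74383bfdd6e32992c4df67919ed74781bede6e72d93c6e068119ee74383bfdeeef2f95c7e0e8519ea74b85aad469b45a0ce56a5d25eb74f87b2d86bb47a1ced8a6d25ec74b85b4d8ebf53a7ce5a27925ed74f87b5d9ebb57a6d05b28125ee74b85b4d96c355a8d15ba8525ebf5785bcdd6e345a0ce5da6d2fecf5387beddee751a6cedf2792fedf5785bfdeee355a7d0e02812feef5387bede6eb57a9d1e0a852fec75b85c0dd6e361aece6227937ed75f87c1de6e765afd06328137ee75b85c0deeef67b1d163a8537edf6785c0df6e369aed364a813deef6387c1dfeeb6bb0d4652853dee76b85c0df6f369b2d565a8541e973b99cae471adf6db4d8eb751ea7439bcbe4f1f0781beddeb551eb7479fcae471b1f8dc4ddac551ec7439dcce4f1f2b93c45f2d151) i1))) (Nat.mul (nat_lit 12) i0) (Nat.mul (nat_lit 12) (Nat.succ i0)) List.nil)) (nat_lit 0) (nat_lit 29) tl)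
    = ?xq9004 → (List (List (ℕ × ℕ)))) ?hq9004; (case hq9004 => (set_option maxRecDepth 1000000 in set_option simprocs false in conv => lhs; reduce; dsimp only)); intro _; exact ?xq9004 y2 : List (List (ℕ × ℕ)))
  (by
  refine (?fq9005 : (fun tl : List (List (ℕ × ℕ)) => pk61l (fun i0 => (pk61l (fun i1 => (_root_.Prod.mk (pk61d (nat_lit 8) 
    (nat_lit 0xe1ddd8d4d1cea19e9b97927ae1dcd7d3d0cea09e9b979278e0dfdacbcac9a1a09e8c8681e0ded9cbc7c6a1a09b8c867de0ddd8cac7c4a19e9b8c867ae0dcd7c9c6c4a09e9b8c8678dfded5cbc1c0a1a0978c817ddfddd4cac1bea19e978c817adfdcd3c9c0bea09e978c8178deddd1c7c1bba19b978c7d7adedcd0c6c0bba09b978c7d78dddccec4bebb9e9b978c7a78dad9d5cbb7b6a1a09286817ddad8d4cab7b4a19e9286817adad7d3c9b6b4a09e92868178d9d8d1c7b7b1a19b92867d7ad9d7d0c6b6b1a09b92867d78d8d7cec4b4b19e9b92867a78d5d4d1c1b7ada19792817d7ad5d3d0c0b6ada09792817d78d4d3cebeb4ad9e9792817a78d1d0cebbb1ad9b97927d7a78cbcac7c1b7a8a18c86817d7acbc9c6c0b6a8a08c86817d78cac9c4beb4a89e8c86817a78c7c6c4bbb1a89b8c867d7a78c1c0bebbada8978c817d7a78b7b6b4b1ada89286817d7a78a1a09e9b97928c86817d7a78)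 i1) (pk61d (nat_lit 9) 
    (nat_lit 0xed7479fcde5f1b2f92c6602d951ee7439dcce57232d94c760add51ebf57a7cbe4f1f47a1ceddec55becf53a5cde471b53a7ce5f6d15bedf57a7cce571f57a6d0606d95beef53a5cde5f2755a8d160edd5bec75ba7cfe4f1f63afcee26d163ed75fa5cee5f1b67aed0e36d963ee75ba7cfe572365b0d1e3edd63edf67a7cfe6f1f6bafd3e4ed969eef63a5cee672769b1d4e56dd69ee76ba7cfe6f2f6bb3d5e5edd6decf5fabd1e471b77b9ce626f977edf5ba9d0e571f7bb8d06370177eef5fabd1e5f2779bad163f0577ed763abd1e671b7fb9d364f017dee767a9d0e6f237dbbd4657057deef6fabd1e672b7fbdd565f0581edf67afd0e771f83b8d764f1989eef63add1e7f2781bad86571d89ee76bafd0e772f83bcd965f1d8deef6fb3d1e7f3781beda65f2993ed763add4e971b87b9d769f419dee767afd5e9f2385bbd86a7459deef6fadd4e972b87bdd96af45a1ee76bb1d5e9f3385bfda6af51a7eef6fb3d7e973b87c1da6cf61afee76bb1d6ea74385c1df6f775b9ee76bb1d6ea74ba1cfe672f91c7) i1))) (Nat.mul (nat_lit 12) i0) (Nat.mul (nat_lit 12) (Nat.succ i0)) List.nil)) (nat_lit 0) (nat_lit 29) tl)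
    = ?xq9005 → (List (List (ℕ × ℕ)))) ?hq9005; (case hq9005 => (set_option maxRecDepth 1000000 in set_option simprocs false in conv => lhs; reduce; dsimp only)); intro _; exact ?xq9005 y3 : List (List (ℕ × ℕ)))

/-- the columns: for the weight `u` the list of `(r, k)`, `k` the code of `-r` at `u` -/
noncomputable def NBT : List (ℕ × List (ℕ × ℕ)) :=
  let y0 : List (ℕ × List (ℕ × ℕ)) := (by
  refine (?fq9006 : (pk61l (fun i0 => (_root_.Prod.mk (pk61d (nat_lit 8) 
    (nat_lit 0xeeedeceb) i0) (pk61l (fun i1 => (_root_.Prod.mk (pk61d (nat_lit 7) 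
    (nat_lit 0xfbf3dfaf3e3b75e9cb8efd9af4e6c572dd9ad4a6c88905ffdf9efd79efdbaf3e5c376cd5a32e1b96ac55a3323c380fbefcf7ebc77edd39f1e1b75eacf9305bb55ea50971a13d79f7e7bf3e3bf5e9cf7eedba7467c77ecd8af4e7ca8aedd39) i1) (pk61d (nat_lit 9) 
    (nat_lit 0xa15bb078ecae5b47a8d5ec765b5dd6f77dc1e172397cce7f43a5d4eb763b540b66071993cb6874dabd7ecb6bb8deefb83c2e372f99cfe874ba9d6ec7727968bee232794cee9b53afd86d771bbdf70785c6e4f339fd0e9753addaee4dac577c46371d9dd068f5fb0d9ee377bce0f0b8dc9e573fa1d2ea763b5dc) i1))) (Nat.mul (nat_lit 27) i0) (Nat.mul (nat_lit 27) (Nat.succ i0)) List.nil))) (nat_lit 0) (nat_lit 4) List.nil : List (ℕ × List (ℕ × ℕ)))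
    = ?xq9006 → (List (ℕ × List (ℕ × ℕ)))) ?hq9006; (case hq9006 => (set_option maxRecDepth 1000000 in set_option simprocs false in conv => lhs; reduce; dsimp only)); intro _; exact ?xq9006 : List (ℕ × List (ℕ × ℕ)))
  let y1 : List (ℕ × List (ℕ × ℕ)) := (by
  refine (?fq9007 : (fun tl : List (ℕ × List (ℕ × ℕ)) => pk61l (fun i0 => (_root_.Prod.mk (pk61d (nat_lit 8) 
    (nat_lit 0xeae9e8e7e6e5e4e3e1e0dfdedd) i0) (pk61l (fun i1 => (_root_.Prod.mk (pk61d (nat_lit 7) 
    (nat_lit 0x1f7e7af3e3bf2e3c37eedb9b2e4c77ab55a94e74970ddb35fbefd79f1df66bd5a7467cd97263bb4a8d09f39a3364c587df9dbaf4e7cb8f0dfbb6e2c382fde9b325ca92bd72d58afefbedd7a73d9af569d19f161c17eec88f1a2b45ea94a84ff7d76e5c786cd7ab365c98b0e0bd7624384e19ae54992a4fbe7af2dfbb669d19b2e3c586fdebb0603b6ec96a94c8d17df1d38efdbaf4e7cd931e2c17ef5d7ef5d3662b14254687ef7e7c376dd5a33e5c98f0e0bf7aebe78e5ab0569d22243f3dfaf3e3bdcb76acd8af5aad4a74a8d09f3901f3c74e1bf9efb75e9cee5bb566c579b325ca911e3455e80f9a3260bfcf5db971e172ddaad56a4d992e4c48709c2e4078d162a53e79ebcb7eeb966c56ab4e6cc95260c076dd6a03a64b1325f3c74e3bf6dbb35eb54a7365ca92fdeba6cb101c3054991)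 i1) (pk61d (nat_lit 9) 
    (nat_lit 0x4bab577be607059dd068f4fa8d5ee377bcdff0b8dc9e5737a1d2eb763b5dc9256ac768b6dbb3ba0d1e9f51abd76c765b5e171b93cae6f3ba9d6ec76bb918a85def981c1627198fc9e532fb8ddef37fc0e372795cde7753add8ed7721b50b1da2db6ec4e331f93ca65f5db1d96d781c7e472f99d0e975fb3dbeec0aa15bb45b6dd7dc060f2794cbe9b53aadaefb8dc9e573ba3d3eaf63b5dc7dd42b762b6dbaef80c1e371d97d068f55b3de71f91cce7f43a5d4eb76fbaf4a856ec569b75def983c4e3b2b9cd1ea363bae372b9bcee8f4fabd7ecf71e350add8ad36cbbdf30389c664f39a1d36bf71c8e5f339fd0e9753add8ed4925f369ed02879cd0e8b4da9d56bf61b3da6e377bcdff03a5d4eb763b5dc86c666d3da050f118dc764b2b96d7ec367b4dceeb7bbee173ba1d7ecf6fbb028ccba7b40a1df30382c96572da7d46af69b8ddef381c3e6747abd8ed771f719974de8143bb607058cc7e5b43a2d5ecb73badf70785cae8753addbeebd2332e9bcf28776bee0b118fca67745a9d86e379bfe070f91d1eaf5fb3dc) i1))) (Nat.mul (nat_lit 27) i0) (Nat.mul (nat_lit 27) (Nat.succ i0)) List.nil))) (nat_lit 0) (nat_lit 13) tl)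
    = ?xq9007 → (List (ℕ × List (ℕ × ℕ)))) ?hq9007; (case hq9007 => (set_option maxRecDepth 1000000 in set_option simprocs false in conv => lhs; reduce; dsimp only)); intro _; exact ?xq9007 y0 : List (ℕ × List (ℕ × ℕ)))
  let y2 : List (ℕ × List (ℕ × ℕ)) := (by
  refine (?fq9008 : (fun tl : List (ℕ × List (ℕ × ℕ)) => pk61l (fun i0 => (_root_.Prod.mk (pk61d (nat_lit 8) 
    (nat_lit 0xdcdad9d8d7d5d4d3d1d0cecbca) i0) (pk61l (fun i1 => (_root_.Prod.mk (pk61d (nat_lit 7) 
    (nat_lit 0x1f3bf3e1bb6dab15ead4a7325ca92f9e396aad01b2e50911f7ebb6cd7aae5bb54a8d0911e3448709a33547cf1a203c77bf3d7669d172cd8a5467c88f160c076d19293e74c901a33df8e9af4e7b766bd2a13e4468afdeba68c541f386078d17efbf3d5a33dab15e8d09f1e3457cf1cb4609cf9b2e3860bf5e796ccd96e56ab4a8ce890e0c070dd9b24c78e9620284faf1c75e6c96eb54a54274484fdeb86ccd8a53c70a8f1423d77e1ab2e4b556a51a13a1c27cf1c3566c121e365070911e7c6fd39b1d9ad4e94f9d05fbb74ddb32628ce9c2634507f3df768cb8ec55a7467ce80f9db96ed59304474d9218243f8efb73e4c75ea53a13e73d78e9cb66ac5821386c88b101fb75e5b3161b9366488f121c180bd72d54a531a32588060bdba71d78b05b9b2e4468909fbd5eb962a5094d182a3c304)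 i1) (pk61d (nat_lit 9) 
    (nat_lit 0x3c6332e9bcf28376bee03118dc967741a7d76eb7bbee0f0b8dd0ea75bb1da81432493da050ed16db764b2b96d36a755aed8ecb7dc0e17379fd3ecf6fbafb864926f40a1d8adb6ec663f2da0d1eab5fb0da6f383c3e5f3ba5d7ed771e90c924de7943b15a6dd88c7e5339a3d46bb65b5dd70385c9e7f4fadd8eebc619249bcf28362b4db3118dc967343a6d86cf69b8e0f0f8fcee975fb3db7dc0e492fa050eb56db76030796d0e8b4fa8d96d37bbfe172b99d3eaf6fbaf481c925f3ca1d6ad36ebe60f299dd169b55b0daeef7dc3e4737a5d4ecf71e303924be7941ad5a6d97cc0e4b3ba0d46af5db4dceff85c6e674fabd8ed3d1f52497cda875ab1dbaed83c767341a8d56c767bade70b93cbe9f57afdd78bea492f9b506b563b65db038cce68b4dabd7ecb71bde1f1f95d2ea75bb6f17ac925f369ed6ac768bb5f711a0d169f53aed86e777c2e3723a7d5ebf65f70386c668143a85b6dd81c16371d93ca6ab65b4de6fb81cbe6f3fa3daee3d2070d8ccf28750b4dbafb82c4e3b2596d46c36bbadff0793cce7743b1dd) i1))) (Nat.mul (nat_lit 27) i0) (Nat.mul (nat_lit 27) (Nat.succ i0)) List.nil))) (nat_lit 0) (nat_lit 13) tl)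
    = ?xq9008 → (List (ℕ × List (ℕ × ℕ)))) ?hq9008; (case hq9008 => (set_option maxRecDepth 1000000 in set_option simprocs false in conv => lhs; reduce; dsimp only)); intro _; exact ?xq9008 y1 : List (ℕ × List (ℕ × ℕ)))
  let y3 : List (ℕ × List (ℕ × ℕ)) := (by
  refine (?fq9009 : (fun tl : List (ℕ × List (ℕ × ℕ)) => pk61l (fun i0 => (_root_.Prod.mk (pk61d (nat_lit 8) 
    (nat_lit 0xc9c7c6c4c1c0bebbb7b6b4b1ad) i0) (pk61l (fun i1 => (_root_.Prod.mk (pk61d (nat_lit 7) 
    (nat_lit 0x1db9f0d58705a992e3c68709f3c5eb95aa4e90d172838284ebd37e9c57eccd95222c17eedd2f5ab14a84664c131a181f5e7bb461bf6264a8f1603e76e57ad56a53a2325c90c0a0fa73db9f05faf2e5468af5e3a72bd62b509d0982e4458407cb8efcd8af569b262417ee1bb65cb56264a8cb152628302e5c3765c37aacc930e03e70ddaae5aad3244458a121214171e1b7260bd525c984f5e386cd572c56952212a50888080b7eedb8efdea72a4bb74e5bb66ab562b4689093244438305b35e9cd8aed291120bf68cd93154a54264a8c80f1a28301d9ab465c3768c78701f3466c982a529d324444070c12140ebd59f260bb423427af1a3362c15284e952211e3858808074e8cf8efdd9f15dba72d193160a5427468908d182c383039b2e4c77aece70ddb3566c98b04c952234484509101c101)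 i1) (pk61d (nat_lit 9) 
    (nat_lit 0x3c6070d8ccf28350b4db2fb80c4e332997d36bb69b8df7038fcde7f47b3db7a3ea1b199b50ea163b75df0588c66532da2d8ecf77bde072395cfe8f5bb8f17d4363336a0d42c76cbbe03118ec965f41afd96e779c1e372f9dd0ebf69e2f586c666d3da858ed177be6331d93cae735db0dc6eb81c7e4f3fa3d6ec3d1f5028ccba8750addbaed7cc063b2996d1ea757bade6fb93cbe6f43a9dd78bea051997506a15bb65daf982c664b2fa1d3eab71bddff1f95cce8f57b6f17ac0a332e9ed42b768bb6030588c9e573ba6d46e777bee37239bd0ea765e2f57dc665d37a856ec57cc060b138dc7e7341a2dc6eb79c7e4f2fa3d5ebbd1f502864928750ad58ad16cc163b2996d16a355b0d96d391cae673ba5dc78bea050c92506a15ab15a2dd80c664b2fa0d36af5db3daf1b97cde7f4fb4f17ac0a19249ed42b562b65baf988c9e5739a7d4ebf63b4e3f2799cee9761e2f57dc324937a856ad16cb75db138dc7e7743a3d76c365c6e472b9fd3eb3c5eafb81c925f50b15a2d96ebbdf70383ce68345a6d46ab8fc9e5f37a5d4) i1))) (Nat.mul (nat_lit 27) i0) (Nat.mul (nat_lit 27) (Nat.succ i0)) List.nil))) (nat_lit 0) (nat_lit 13) tl)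
    = ?xq9009 → (List (ℕ × List (ℕ × ℕ)))) ?hq9009; (case hq9009 => (set_option maxRecDepth 1000000 in set_option simprocs false in conv => lhs; reduce; dsimp only)); intro _; exact ?xq9009 y2 : List (ℕ × List (ℕ × ℕ)))
  (by
  refine (?fq9010 : (fun tl : List (ℕ × List (ℕ × ℕ)) => pk61l (fun i0 => (_root_.Prod.mk (pk61d (nat_lit 8) 
    (nat_lit 0xa8a1a09e9b97928c86817d7a78) i0) (pk61l (fun i1 => (_root_.Prod.mk (pk61d (nat_lit 7) 
    (nat_lit 0x18b0e0bf7aeaf5cb562b54a54274c952234484305080c101b96ecd6a53644482fd01f3c74e1a3260b15264078d141805cb562ad1991e1c07c80f9e3a6cd192e58a1220386090a02ddaaf5284b8d09ebc407cf1c3668c172a5088f1c2c4040166c57a73e54576e9ca03e74e1b3260b93244468c161c180ad56a539d25c376cd501e3a70d962a5099222284880e08052a3427ce68cd931607cf1d386c80f1c3460b142440702026cc972a4af5cb562b4068c982e58a9426488860a1018201223c68ad17aa52a139f3464c17203c70d182c305080c080890e13866b95264a90f1a2c54a101e385091018284040404180edbb25aa53234474c96264880d18284870c141820201fbd74d98ac50951a13860a93223c68b1420386080c10100f9e396ac15a7488909b2e509111c30589101c2840608080)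 i1) (pk61d (nat_lit 9) 
    (nat_lit 0x3c5eafb81c36335ab15a2d96ebb5f30182c46331d92ca65b8dc8e57339dd07a3ea050c8c4925d369e502df83c7e572fa3d4eaf63b3daeef7bbfe0f0fb8f17d40a1918924ba6d3ca15b7038dc9e5b43a7d56bf65b4dcef37dc0e1769e2f5814323124974da8142b4df71392ca6774da8d76c36bb8dd6ff83c3ec3c5eafb86462492e9e5028563bbe23198ece68345afd8ecf73bbdef0385d678bd5f7038c4926d3ca050ab776be603059dd0e8f4fa9d5ee375bcdf70fa8f17abee070d974da7940a156ac568b65bb39a0d169b51aad76c365b4e1749e2f57dc0e1b2e9b4f28142a8ddefb81c1e271b8fc9e572fb9ddef77fc1e83c5eafb81c664b369e5028551b15a2d96ec4e371f93cae5f5db0d96d383cf78bd5f70d8cc965f3ca050aa35bb45b2dd7cc060b2795cbe9f53abda6fb98f17ac0e1b1992cbe6f40a1546b763b65baef80c16331d97d068b57b3def2de2fb81c36332597cde7b42a8d6ec769b75defb82c4e3b299dd16a361bae43d5f70386c664b2f9bcf68351add8ed36dbbdf70389c6e4f3ba1d3ebf73c7) i1))) (Nat.mul (nat_lit 27) i0) (Nat.mul (nat_lit 27) (Nat.succ i0)) List.nil))) (nat_lit 0) (nat_lit 13) tl)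
    = ?xq9010 → (List (ℕ × List (ℕ × ℕ)))) ?hq9010; (case hq9010 => (set_option maxRecDepth 1000000 in set_option simprocs false in conv => lhs; reduce; dsimp only)); intro _; exact ?xq9010 y3 : List (ℕ × List (ℕ × ℕ)))

/-- the non-zero entries of `h` -/
def fm (h : ℕ → ℕ) (L : List ℕ) : List (ℕ × ℕ) := L.filterMap fun u => bif Nat.beq (h u) 0 then none else some (u, h u)

theorem chkRW : ((List.range 126).all fun r => RWT.getD r [] == fm (fun u => lk (PT.getD (125 - r) 0) (u - 120)) W56) = true := by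
  decide +kernel

theorem chkNB : (NBT.all fun x => x.2 == fm (fun r => lk (PT.getD (125 - r) 0) (x.1 - 120)) (List.range 126)) = true := by
  decide +kernel

theorem chkNB1 : (NBT.map fun x => x.1) = W56 := by decide +kernel

theorem sum_fm (h : ℕ → ℕ) (G : ℕ → ℕ → F) (L : List ℕ) : ((fm h L).map fun x => G x.1 x.2).sum =
    (L.map fun u => if h u = 0 then 0 else G u (h u)).sum := by
  induction L with
  | nil => rfl
  | cons u L ih =>
    rw [List.map_cons, List.sum_cons, ← ih]
    unfold fm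
    by_cases hu : h u = 0
    · rw [List.filterMap_cons_none (by rw [hu]; rfl), if_pos hu, zero_add]
    · rw [List.filterMap_cons_some (b := (u, h u)) (by rw [beq_zero_false hu]; rfl), List.map_cons, List.sum_cons, if_neg hu]

/-- packed elements of the Lie algebra: 4 bits for each root, then for each simple coroot -/
def q (Q r : ℕ) : ℕ := Nat.land (Nat.shiftRight Q (4 * r)) 15

/-- the element of the Lie algebra -/
def qv (F : Type u) [Field F] (Q : ℕ) : chevE7.Idx → F := Sum.elim (fun i => ((q Q (126 + i) : ℕ) : F)) (fun r => ((q Q r : ℕ) : F))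

/-- the value `sf (N_r x) y` -/
noncomputable def cr (A B r : ℕ) : ℕ := ((RWT.getD r []).map fun x =>
  let o := lk OPN (x.1 - 120)
  sn x.2 * pa A (x.2 / 2) * (sn o * pa B (o / 2))).sum

/-- residue of an integer -/
def zr (z : ℤ) : ℕ := (z % 5).toNat

/-- the packed table of the residues of the Cartan integers -/
def CKN : ℕ := 0x100000004100000004100000004100000004110000004110000014000001441000140010014000101400001040000010000000000000014000010440001410400140104014001040400010400000000000104000014140001401400040014000000000000104010014140100401401000000000010400100414001000000000004000100000000000000000001000400141004004010040000000000104104004141040000000000040104000000000000000000100410004104100000000000041410000000000000000000004010000000000000000000000000001000401041004010000000000410401000000000000000000041401000000000000000000000000000040110000000000000000000000000000000000000041000000000000000000000000000000000000000000000000010000040410000400000000004100040000000000000000000410040000000000000000000000000000411400000000000000000000000000000000000004100000000000000000000000000000000000000000000001440000000000000000000000000000000000000000000014400000000000000000000000000000000000014000000000000000000000000000001400000000000000000000014000000000000004000000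

/-- the packed table of the residues of `mmn` -/
def MKN : ℕ := 0x340143201401432012014320123143201234432012342320123441201234212012322120121221201012212040122120000000001234230012342100123221001212210010122100401221000000000012320100121201001012010040120100000000001210010010100100401001000000000010400100404001000000000043400100000000000000000012100400101004004010040000000000104004004040040000000000434004000000000000000000104304004043040000000000434304000000000000000000432304000000000000000000000000001043340040433400000000004343340000000000000000004323340000000000000000000000000043213400000000000000000000000000000000004321320000000000000000000000000000000000000000000000000010433430404334300000000043433430000000000000000043233430000000000000000000000000432134300000000000000000000000000000000043211430000000000000000000000000000000000000000043213230000000000000000000000000000000000000000043211230000000000000000000000000000000004324123000000000000000000000000043041230000000000000000041041230000000002104123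

/-- the residue of the Cartan integer -/
def ck (s i : ℕ) : ℕ := Nat.land (Nat.shiftRight CKN (Nat.mul 4 (Nat.add (Nat.mul 8 (Nat.sub s 120)) i))) 15

/-- the residue of `mmn` -/
def mk (s i : ℕ) : ℕ := Nat.land (Nat.shiftRight MKN (Nat.mul 4 (Nat.add (Nat.mul 8 (Nat.sub s 120)) i))) 15

theorem chkCK : (W56.all fun s => (List.range 7).all fun i => Nat.beq (ck s i) (zr (chevE8.cartan i s)) &&
    Nat.beq (mk s i) (zr (mmn s i))) = true := by (rewrite [Cfsg.Agent.ChevFast.E8.cartan]; decide +kernel)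

theorem ck_spec (a : D1) {i : ℕ} (hi : i < 7) : ck (nn a) i = zr (chevE8.cartan i (nn a)) ∧ mk (nn a) i = zr (mmn (nn a) i) := by
  have h := List.all_eq_true.1 (List.all_eq_true.1 chkCK (nn a) (nn_mem a)) i (List.mem_range.2 hi)
  rw [Bool.and_eq_true] at h
  exact ⟨Nat.eq_of_beq_eq_true h.1, Nat.eq_of_beq_eq_true h.2⟩

/-- the Cartan coordinates -/
def ch (A B i : ℕ) : ℕ := (W56.map fun s =>
  let o := lk OPN (s - 120)
  pa A s * sn o * pa B (o / 2) * mk s i).sum

/-- the check of `dd` -/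
noncomputable def chkQ (A B Q : ℕ) : Bool :=
  ((List.range 126).all fun r => Nat.beq ((3 * cr A B (125 - r)) % 5) (q Q r)) &&
  ((List.range 7).all fun i => Nat.beq ((4 * ch A B i) % 5) (q Q (126 + i)))

/-- the check of `del` -/
noncomputable def chkD (Q C E : ℕ) : Bool :=
  NBT.all fun x => Nat.beq ((((x.2.map fun y => q Q y.1 * (sn y.2 * pa C (y.2 / 2))).sum +
    ((List.range 7).map fun i => q Q (126 + i) * (ck x.1 i * pa C x.1)).sum)) % 5) (pa E x.1)

theorem OPN_spec (a : D1) : lk OPN (nn a - 120) / 2 = nn (op a) ∧ se F (lk OPN (nn a - 120)) = ((ep a : ℤ) : F) := by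
  have h := Nat.eq_of_beq_eq_true (List.all_eq_true.1 chkOPN (nn a) (nn_mem a))
  rw [h, st_eq]
  rcases sq_cases (ep_sq a) with h1 | h1
  · rw [h1]
    show (2 * nn (op a) + 0) / 2 = _ ∧ se F (2 * nn (op a) + 0) = _
    refine ⟨by omega, ?_⟩
    unfold se
    rw [if_pos (by omega)]; simp
  · rw [h1]
    show (2 * nn (op a) + 1) / 2 = _ ∧ se F (2 * nn (op a) + 1) = _
    refine ⟨by omega, ?_⟩
    unfold se
    rw [if_neg (by omega)]; simp

section five
variable [CharP F 5]

theorem zr_cast (z : ℤ) : ((zr z : ℕ) : F) = (z : F) := by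
  have h5 : (5 : F) = 0 := five_zero
  unfold zr
  have h1 : ((z % 5).toNat : ℤ) = z % 5 := Int.toNat_of_nonneg (Int.emod_nonneg _ (by norm_num))
  have h2 : (((z % 5).toNat : ℕ) : F) = ((z % 5 : ℤ) : F) := by
    rw [← Int.cast_natCast (R := F), h1]
  rw [h2]
  conv_rhs => rw [← Int.mul_ediv_add_emod z 5]
  push_cast
  rw [h5]; ring

theorem cr_spec {r : ℕ} (hr : r < 126) (A B : ℕ) : ((cr A B r : ℕ) : F) = sf F (NM F r *ᵥ lv F (pl A)) (lv F (pl B)) := by
  rw [sf_sum]
  have h1 : RWT.getD r [] = fm (fun u => lk (PT.getD (125 - r) 0) (u - 120)) W56 := by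
    have := List.all_eq_true.1 chkRW r (List.mem_range.2 hr)
    exact eq_of_beq this
  unfold cr
  rw [h1, Nat.cast_list_sum, List.map_map]
  rw [show (List.map (Nat.cast ∘ fun x : ℕ × ℕ => sn x.2 * pa A (x.2 / 2) * (sn (lk OPN (x.1 - 120)) * pa B (lk OPN (x.1 - 120) / 2)))
      (fm (fun u => lk (PT.getD (125 - r) 0) (u - 120)) W56)) =
      (fm (fun u => lk (PT.getD (125 - r) 0) (u - 120)) W56).map fun x => (fun u k => (((sn k * pa A (k / 2) *
        (sn (lk OPN (u - 120)) * pa B (lk OPN (u - 120) / 2)) : ℕ)) : F)) x.1 x.2 from rfl]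
  rw [sum_fm (fun u => lk (PT.getD (125 - r) 0) (u - 120)) (fun u k => (((sn k * pa A (k / 2) *
        (sn (lk OPN (u - 120)) * pa B (lk OPN (u - 120) / 2)) : ℕ)) : F)) W56, ← sumD1]
  refine Finset.sum_congr rfl fun a _ => ?_
  rcases NM_code hr (lv F (pl A)) a with ⟨h2, h3⟩ | ⟨h2, b, h3, h4⟩
  · rw [h2, if_pos rfl, h3, zero_mul]
  · rw [if_neg h2, h4, h3]
    obtain ⟨h5, h6⟩ := OPN_spec (F := F) a
    push_cast
    rw [sn_cast, sn_cast, h5, h6, lv_pl, lv_pl]

theorem ch_spec (A B : ℕ) {i : ℕ} (hi : i < 7) : ((ch A B i : ℕ) : F) = ∑ a : D1, lv F (pl A) a * ((ep a : ℤ) : F) * lv F (pl B) (op a) *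
    ((mmn (nn a) i : ℤ) : F) := by
  unfold ch
  rw [Nat.cast_list_sum, List.map_map]
  rw [show (List.map (Nat.cast ∘ fun s => pa A s * sn (lk OPN (s - 120)) * pa B (lk OPN (s - 120) / 2) * mk s i) W56) =
    W56.map (fun s => ((pa A s * sn (lk OPN (s - 120)) * pa B (lk OPN (s - 120) / 2) * mk s i : ℕ) : F)) from rfl,
    ← sumD1]
  refine Finset.sum_congr rfl fun a _ => ?_
  obtain ⟨h5, h6⟩ := OPN_spec (F := F) a
  push_cast
  rw [sn_cast, h5, h6, (ck_spec a hi).2, zr_cast, lv_pl, lv_pl]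

theorem dd_eval {A B Q : ℕ} (h : chkQ A B Q = true) : dd (lv F (pl A)) (lv F (pl B)) = qv F Q := by
  have h5 : (5 : F) = 0 := five_zero
  unfold chkQ at h
  rw [Bool.and_eq_true] at h
  funext j
  rcases j with i | r
  · have h1 := Nat.eq_of_beq_eq_true (List.all_eq_true.1 h.2 i (List.mem_range.2 i.2))
    show _ = ((q Q (126 + i) : ℕ) : F)
    rw [dd_inl, ← h1, castmod]
    push_cast
    rw [ch_spec A B i.2]
    linear_combination (- ∑ a : D1, lv F (pl A) a * ((ep a : ℤ) : F) * lv F (pl B) (op a) * ((mmn (nn a) i : ℤ) : F)) * h5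
  · have hr : (r : ℕ) < 126 := r.2
    have h1 := Nat.eq_of_beq_eq_true (List.all_eq_true.1 h.1 r (List.mem_range.2 hr))
    show _ = ((q Q r : ℕ) : F)
    rw [dd_inr, ← h1, castmod]
    push_cast
    rw [cr_spec (by omega)]
    linear_combination (- sf F (NM F (125 - r) *ᵥ lv F (pl A)) (lv F (pl B))) * h5

omit [CharP F 5] in
theorem del_mulVec (z : chevE7.Idx → F) (w : D1 → F) (a : D1) : (del F z *ᵥ w) a =
    (∑ r ∈ Finset.range 126, (if h : r < 126 then z (Sum.inr ⟨r, h⟩) else 0) * (NM F r *ᵥ w) a) +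
    ∑ i : Fin chevE7.rank, z (Sum.inl i) * (((chevE8.cartan i (nn a) : ℤ) : F) * w a) := by
  rw [del_apply, Matrix.add_mulVec, Pi.add_apply, Matrix.sum_mulVec, Matrix.sum_mulVec, Finset.sum_apply, Finset.sum_apply,
    add_comm]
  congr 1
  · show ∑ r : Fin 126, _ = _
    rw [Finset.sum_fin_eq_sum_range]
    refine Finset.sum_congr rfl fun r hr => ?_
    have hr' := Finset.mem_range.1 hr
    rw [dif_pos hr', dif_pos hr', Matrix.smul_mulVec, Pi.smul_apply, smul_eq_mul]
    rfl
  · refine Finset.sum_congr rfl fun i _ => ?_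
    rw [Matrix.smul_mulVec, Pi.smul_apply, smul_eq_mul, Hi_mulVec]

omit [CharP F 5] in
theorem list_sum_range (f : ℕ → F) (n : ℕ) : ((List.range n).map f).sum = ∑ i ∈ Finset.range n, f i := by
  induction n with
  | zero => rfl
  | succ n ih => rw [List.range_succ, List.map_append, List.sum_append, ih, Finset.sum_range_succ]; simp

theorem del_eval {Q C E : ℕ} (h : chkD Q C E = true) : del F (qv F Q) *ᵥ lv F (pl C) = lv F (pl E) := by
  funext a
  have ha : nn a ∈ NBT.map fun x => x.1 := by rw [chkNB1]; exact nn_mem a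
  obtain ⟨x, hx, hxa⟩ := List.mem_map.1 ha
  have h1 := Nat.eq_of_beq_eq_true (List.all_eq_true.1 h x hx)
  have h2 : x.2 = fm (fun r => lk (PT.getD (125 - r) 0) (x.1 - 120)) (List.range 126) :=
    eq_of_beq (List.all_eq_true.1 chkNB x hx)
  rw [hxa] at h1 h2
  rw [del_mulVec, lv_pl E a, ← h1, castmod, Nat.cast_add]
  congr 1
  · rw [h2, Nat.cast_list_sum, List.map_map]
    rw [show (List.map (Nat.cast ∘ fun y : ℕ × ℕ => q Q y.1 * (sn y.2 * pa C (y.2 / 2)))
      (fm (fun r => lk (PT.getD (125 - r) 0) (nn a - 120)) (List.range 126))) =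
      (fm (fun r => lk (PT.getD (125 - r) 0) (nn a - 120)) (List.range 126)).map fun y =>
        (fun r k => ((q Q r * (sn k * pa C (k / 2)) : ℕ) : F)) y.1 y.2 from rfl]
    rw [sum_fm (fun r => lk (PT.getD (125 - r) 0) (nn a - 120)) (fun r k => ((q Q r * (sn k * pa C (k / 2)) : ℕ) : F))
      (List.range 126), list_sum_range]
    refine Finset.sum_congr rfl fun r hr => ?_
    have hr' := Finset.mem_range.1 hr
    rw [dif_pos hr']
    show ((q Q r : ℕ) : F) * _ = _
    rcases NM_code hr' (lv F (pl C)) a with ⟨h3, h4⟩ | ⟨h3, b, h4, h5⟩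
    · rw [h3, if_pos rfl, h4, mul_zero]
    · rw [if_neg h3, h5, h4]
      push_cast
      rw [sn_cast, lv_pl]
  · rw [Nat.cast_list_sum, List.map_map]
    rw [show (Nat.cast ∘ fun i => q Q (126 + i) * (ck (nn a) i * pa C (nn a)) : ℕ → F) =
      fun i => ((q Q (126 + i) * (ck (nn a) i * pa C (nn a)) : ℕ) : F) from rfl, sum_range7]
    refine Finset.sum_congr rfl fun i _ => ?_
    show ((q Q (126 + i) : ℕ) : F) * _ = _
    push_cast
    rw [(ck_spec a i.2).1, zr_cast, lv_pl]

/-- **the evaluation of `DD`** -/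
theorem DD_eval {A B C Q E : ℕ} (h1 : chkQ A B Q = true) (h2 : chkD Q C E = true) :
    DD F (lv F (pl A)) (lv F (pl B)) *ᵥ lv F (pl C) = lv F (pl E) := by
  rw [← del_dd, dd_eval h1, del_eval h2]

/-- the form -/
def om (A B : ℕ) : ℕ := ((W56.map fun s =>
  let o := lk OPN (s - 120)
  pa A s * (sn o * pa B (o / 2))).sum) % 5

theorem om_spec (A B : ℕ) : ((om A B : ℕ) : F) = sf F (lv F (pl A)) (lv F (pl B)) := by
  unfold om
  rw [castmod, sf_sum, Nat.cast_list_sum, List.map_map]
  rw [show (List.map (Nat.cast ∘ fun s => pa A s * (sn (lk OPN (s - 120)) * pa B (lk OPN (s - 120) / 2))) W56) =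
    W56.map (fun s => ((pa A s * (sn (lk OPN (s - 120)) * pa B (lk OPN (s - 120) / 2)) : ℕ) : F)) from rfl,
    ← sumD1]
  refine Finset.sum_congr rfl fun a _ => ?_
  obtain ⟨h5, h6⟩ := OPN_spec (F := F) a
  push_cast
  rw [sn_cast, h5, h6, lv_pl, lv_pl]

end five

end Cfsg.Agent.R2.PX.C
end

private theorem dce_21093aed34cc : _root_.True := by
  try have : _root_.True := by simp only [_root_.Cfsg.Agent.R2.PX.C.fl.eq_1]
  exact _root_.True.intro
end

-- part: R2/PX/C/StdA
section
prune_inst 0x200040403022000000000002220020001c00009000200000f84007400a473100894029004e101d0200ec228018000000000000500000000000000400000000000080000031000000200006002000000000000000000000000000000000041004000000000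
set_option linter.all false
open scoped Cfsg.Agent.FastGrp

-- part: R2/PX/C/Up
section
/-!
# Pattern X, Part C: words on packed vectors (helper3)

* `upg f R l` : the packed vector `R` with the new value `f R u k` at `u` for the entries `(u, k)` of `l`;
* `V_cw` : the action of a compiled word on a packed vector; `V_tor` : the torus.
-/

set_option autoImplicit false
set_option maxRecDepth 100000

namespace Cfsg.Agent.R2.PX.C

open Cfsg Cfsg.Lie Matrix
open Cfsg.Agent.R2.T1 Cfsg.Agent.R2.PX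
open Cfsg.Agent.ChevalleyStructure.Elts Cfsg.Agent.ChevalleyStructure.RootVec
  Cfsg.Agent.ChevalleyStructure.RootVecTab
open Cfsg.Agent.H943.E7V.Block (D1 rho)

universe u

/-- packed vectors, with the raw functions -/
def pb (R s : ℕ) : ℕ := Nat.land (Nat.shiftRight R (Nat.mul 4 (Nat.sub s 120))) 15

theorem pb_eq (R s : ℕ) : pb R s = pa R s := rfl

/-- packed update -/
def upg (f : ℕ → ℕ → ℕ → ℕ) (R : ℕ) : List (ℕ × ℕ) → ℕ
  | [] => R
  | (u, k) :: l => Nat.xor (upg f R l) (Nat.shiftLeft (Nat.xor (pb R u) (f R u k)) (Nat.mul 4 (Nat.sub u 120)))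

/-- the new value for a root element -/
def fr (t R u k : ℕ) : ℕ := Nat.mod (Nat.add (pb R u) (Nat.mul t (Nat.mul (sn k) (pb R (Nat.div k 2))))) 5

/-- the new value for an element of the torus -/
def ft (R u k : ℕ) : ℕ := Nat.mod (Nat.mul k (pb R u)) 5

theorem pa_lt (R s : ℕ) : pa R s < 16 := by
  show (R >>> (4 * (s - 120))) &&& 15 < 16
  exact Nat.lt_succ_of_le Nat.and_le_right

theorem pa_testBit (R s i : ℕ) : (pa R s).testBit i = (decide (i < 4) && R.testBit (4 * (s - 120) + i)) := by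
  show ((R >>> (4 * (s - 120))) &&& 15).testBit i = _
  rw [Nat.testBit_and, Nat.testBit_shiftRight, show (15 : ℕ) = 2 ^ 4 - 1 from rfl, Nat.testBit_two_pow_sub_one,
    Bool.and_comm]

theorem pa_xor (A : ℕ) {z u s : ℕ} (hz : z < 16) (hu : 120 ≤ u) (hs : 120 ≤ s) :
    pa (Nat.xor A (Nat.shiftLeft z (Nat.mul 4 (Nat.sub u 120)))) s = if s = u then Nat.xor (pa A s) z else pa A s := by
  apply Nat.eq_of_testBit_eq
  intro i
  have hz4 : ∀ j, 4 ≤ j → z.testBit j = false := fun j hj => by
    apply Nat.testBit_lt_two_pow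
    calc z < 2 ^ 4 := hz
      _ ≤ 2 ^ j := Nat.pow_le_pow_right (by norm_num) hj
  rw [pa_testBit]
  change (decide (i < 4) && (A ^^^ (z <<< (4 * (u - 120)))).testBit (4 * (s - 120) + i)) = _
  rw [Nat.testBit_xor, Nat.testBit_shiftLeft]
  by_cases hi : i < 4
  · by_cases h : s = u
    · subst h
      rw [if_pos rfl]
      change _ = (pa A s ^^^ z).testBit i
      rw [Nat.testBit_xor, pa_testBit, decide_eq_true hi, decide_eq_true (show 4 * (s - 120) ≤ 4 * (s - 120) + i by omega),
        show 4 * (s - 120) + i - 4 * (s - 120) = i by omega]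
      simp
    · rw [if_neg h, pa_testBit, decide_eq_true hi]
      have h1 : (decide (4 * (u - 120) ≤ 4 * (s - 120) + i) && z.testBit (4 * (s - 120) + i - 4 * (u - 120))) = false := by
        by_cases h2 : 4 * (u - 120) ≤ 4 * (s - 120) + i
        · rw [hz4 _ (by omega), Bool.and_false]
        · rw [decide_eq_false h2, Bool.false_and]
      change (true && (A.testBit (4 * (s - 120) + i) ^^ (decide (4 * (u - 120) ≤ 4 * (s - 120) + i) &&
        z.testBit (4 * (s - 120) + i - 4 * (u - 120))))) = _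
      rw [h1]
      simp
  · rw [decide_eq_false hi, Bool.false_and]
    by_cases h : s = u
    · rw [if_pos h]
      change _ = (pa A s ^^^ z).testBit i
      rw [Nat.testBit_xor, pa_testBit, decide_eq_false hi, hz4 i (by omega)]
      simp
    · rw [if_neg h, pa_testBit, decide_eq_false hi, Bool.false_and]

theorem upg_spec (f : ℕ → ℕ → ℕ → ℕ) (hf : ∀ R u k, f R u k < 16) (R : ℕ) (h : ℕ → ℕ) :
    ∀ L : List ℕ, L.Nodup → (∀ u ∈ L, 120 ≤ u) → ∀ s, 120 ≤ s →
      pa (upg f R (fm h L)) s = if s ∈ L ∧ h s ≠ 0 then f R s (h s) else pa R s := by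
  intro L
  induction L with
  | nil =>
    intro _ _ s _
    rw [if_neg (by simp)]
    rfl
  | cons u L ih =>
    intro hn hL s hs
    rw [List.nodup_cons] at hn
    have ih' := ih hn.2 (fun x hx => hL x (List.mem_cons_of_mem _ hx)) s hs
    by_cases hu : h u = 0
    · have h1 : fm h (u :: L) = fm h L := by
        unfold fm
        rw [List.filterMap_cons_none (by rw [hu]; rfl)]
      rw [h1, ih']
      by_cases hsu : s = u
      · subst hsu
        rw [if_neg (fun hh => hn.1 hh.1), if_neg (fun hh => hh.2 hu)]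
      · have : (s ∈ u :: L ∧ h s ≠ 0) ↔ (s ∈ L ∧ h s ≠ 0) := by
          rw [List.mem_cons]
          constructor
          · rintro ⟨h1 | h1, h2⟩
            · exact absurd h1 hsu
            · exact ⟨h1, h2⟩
          · rintro ⟨h1, h2⟩
            exact ⟨Or.inr h1, h2⟩
        by_cases hh : s ∈ L ∧ h s ≠ 0
        · rw [if_pos hh, if_pos (this.2 hh)]
        · rw [if_neg hh, if_neg (fun h' => hh (this.1 h'))]
    · have h1 : fm h (u :: L) = (u, h u) :: fm h L := by
        unfold fm
        rw [List.filterMap_cons_some (b := (u, h u)) (by rw [beq_zero_false hu]; rfl)]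
      rw [h1]
      show pa (Nat.xor (upg f R (fm h L)) (Nat.shiftLeft (Nat.xor (pb R u) (f R u (h u))) (Nat.mul 4 (Nat.sub u 120)))) s = _
      have h16 : Nat.xor (pb R u) (f R u (h u)) < 16 := by
        show pa R u ^^^ f R u (h u) < 2 ^ 4
        exact Nat.xor_lt_two_pow (pa_lt R u) (hf R u (h u))
      rw [pa_xor _ h16 (hL u List.mem_cons_self) hs, ih']
      by_cases hsu : s = u
      · subst hsu
        rw [if_pos rfl, if_neg (fun hh => hn.1 hh.1), if_pos ⟨List.mem_cons_self, hu⟩]
        show pa R s ^^^ (pa R s ^^^ f R s (h s)) = _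
        rw [← Nat.xor_assoc, Nat.xor_self, Nat.zero_xor]
      · rw [if_neg hsu]
        have : (s ∈ u :: L ∧ h s ≠ 0) ↔ (s ∈ L ∧ h s ≠ 0) := by
          rw [List.mem_cons]
          constructor
          · rintro ⟨h1 | h1, h2⟩
            · exact absurd h1 hsu
            · exact ⟨h1, h2⟩
          · rintro ⟨h1, h2⟩
            exact ⟨Or.inr h1, h2⟩
        by_cases hh : s ∈ L ∧ h s ≠ 0
        · rw [if_pos hh, if_pos (this.2 hh)]
        · rw [if_neg hh, if_neg (fun h' => hh (this.1 h'))]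

theorem W56_nodup : W56.Nodup := by decide +kernel

theorem W56_ge : ∀ u ∈ W56, 120 ≤ u := by decide +kernel

theorem nn_ge (a : D1) : 120 ≤ nn a := W56_ge _ (nn_mem a)

theorem upg_W56 (f : ℕ → ℕ → ℕ → ℕ) (hf : ∀ R u k, f R u k < 16) (R : ℕ) (h : ℕ → ℕ) (a : D1) :
    pa (upg f R (fm h W56)) (nn a) = if h (nn a) ≠ 0 then f R (nn a) (h (nn a)) else pa R (nn a) := by
  rw [upg_spec f hf R h W56 W56_nodup W56_ge (nn a) (nn_ge a)]
  by_cases hh : h (nn a) ≠ 0
  · rw [if_pos ⟨nn_mem a, hh⟩, if_pos hh]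
  · rw [if_neg (fun h' => hh h'.2), if_neg hh]

variable {F : Type u} [Field F] [CharP F 5]

/-- the action of a root element on a packed vector -/
theorem V_up {r : ℕ} (hr : r < 126) (t R : ℕ) :
    V F (xs F r (t : F)) (lv F (pl R)) = lv F (pl (upg (fr t) R (fm (fun u => lk (PT.getD (125 - r) 0) (u - 120)) W56))) := by
  have hf : ∀ R u k, fr t R u k < 16 := fun R u k => lt_of_lt_of_le (Nat.mod_lt _ (by norm_num)) (by norm_num)
  funext a
  rw [V_xs hr, Pi.add_apply, Pi.smul_apply, smul_eq_mul, lv_pl, lv_pl, upg_W56 _ hf]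
  rcases NM_code hr (lv F (pl R)) a with ⟨h1, h2⟩ | ⟨h1, b, h2, h3⟩
  · rw [if_neg (fun h => h h1), h2, mul_zero, add_zero]
  · rw [if_pos h1, h3]
    show _ = (((pa R (nn a) + t * (sn (lk (PT.getD (125 - r) 0) (nn a - 120)) *
      pa R (lk (PT.getD (125 - r) 0) (nn a - 120) / 2))) % 5 : ℕ) : F)
    rw [castmod, h2]
    push_cast
    rw [sn_cast, lv_pl]

/-- the action of a compiled word on a packed vector -/
def cw (w : List (ℕ × List (ℕ × ℕ))) (R : ℕ) : ℕ := w.foldr (fun x L => upg (fr x.1) L x.2) R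

/-- the word and the compiled word agree -/
def okw (w : List (ℕ × ℕ)) (c : List (ℕ × List (ℕ × ℕ))) : Bool :=
  c == w.map (fun x => (x.2, fm (fun u => lk (PT.getD (125 - x.1) 0) (u - 120)) W56)) && w.all fun x => Nat.blt x.1 126

theorem V_cw {w : List (ℕ × ℕ)} {c : List (ℕ × List (ℕ × ℕ))} (h : okw w c = true) (R : ℕ) :
    V F (gw F w) (lv F (pl R)) = lv F (pl (cw c R)) := by
  unfold okw at h
  rw [Bool.and_eq_true] at h
  obtain ⟨h1, h2⟩ := h
  have h3 := eq_of_beq h1
  subst h3
  clear h1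
  induction w with
  | nil =>
    show V F (List.prod []) _ = _
    rw [List.prod_nil, V_one]
    rfl
  | cons x w ih =>
    rw [List.all_cons, Bool.and_eq_true, Nat.blt_eq] at h2
    show V F (List.prod (_ :: _)) _ = _
    rw [List.prod_cons, V_mul]
    have h4 : V F (w.map fun x => xs F x.1 ((x.2 : ℕ) : F)).prod (lv F (pl R)) = _ := ih h2.2
    rw [h4, V_up h2.1]
    rfl

/-! ### the torus -/

/-- the exponent -/
def tx (e : List ℤ) (s : ℕ) : ℤ := ((List.range 7).map fun i => e.getD i 0 * chevE8.cartan i s).sum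

/-- the value -/
def te (e : List ℤ) (s : ℕ) : ℕ := 2 ^ (tx e s % 4).toNat % 5

/-- the element of the torus -/
noncomputable def tor (F : Type u) [Field F] [CharP F 5] (e : List ℤ) : Gh F :=
  Phi F fun i => Units.mk0 (2 : F) two_ne ^ (e.getD i 0)

theorem te_cast (e : List ℤ) (s : ℕ) : ((te e s : ℕ) : F) = (2 : F) ^ (tx e s) := by
  unfold te
  rw [castmod]
  have h1 : tx e s = 4 * (tx e s / 4) + ((tx e s % 4).toNat : ℤ) := by
    rw [Int.toNat_of_nonneg (Int.emod_nonneg _ (by norm_num))]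
    exact (Int.mul_ediv_add_emod _ _).symm
  have h4 : (2 : F) ^ (4 : ℤ) = 1 := by
    have h5 : (5 : F) = 0 := five_zero
    rw [show (4 : ℤ) = ((4 : ℕ) : ℤ) from rfl, zpow_natCast]
    linear_combination 3 * h5
  conv_rhs => rw [h1]
  rw [zpow_add₀ two_ne, _root_.zpow_mul, h4, _root_.one_zpow, one_mul, zpow_natCast]
  push_cast
  rfl

omit [CharP F 5] in
theorem te_pos (e : List ℤ) (s : ℕ) : te e s ≠ 0 := by
  unfold te
  have h : (tx e s % 4).toNat < 4 := by
    have h1 := Int.emod_nonneg (tx e s) (show (4 : ℤ) ≠ 0 by norm_num)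
    have h2 := Int.emod_lt_of_pos (tx e s) (show (0 : ℤ) < 4 by norm_num)
    omega
  generalize (tx e s % 4).toNat = k at h
  interval_cases k <;> norm_num

theorem V_tor (e : List ℤ) (R : ℕ) :
    V F (tor F e) (lv F (pl R)) = lv F (pl (upg ft R (fm (te e) W56))) := by
  have hf : ∀ R u k, ft R u k < 16 := fun R u k => lt_of_lt_of_le (Nat.mod_lt _ (by norm_num)) (by norm_num)
  have h2 : (2 : F) ≠ 0 := two_ne
  funext a
  rw [lv_pl, upg_W56 _ hf, if_pos (te_pos _ _), tor, V_apply, rho_Phi, Matrix.mulVec_diagonal, lv_pl]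
  show _ = (((te e (nn a) * pa R (nn a)) % 5 : ℕ) : F)
  rw [castmod]
  push_cast
  rw [te_cast]
  congr 1
  unfold wt
  rw [Units.coe_prod]
  show ∏ i : Fin 7, (((Units.mk0 (2 : F) two_ne ^ (e.getD i 0)) ^ chevE8.cartan i (nn a) : Fˣ) : F) = _
  have h3 : tx e (nn a) = e.getD 0 0 * chevE8.cartan 0 (nn a) + (e.getD 1 0 * chevE8.cartan 1 (nn a) +
      (e.getD 2 0 * chevE8.cartan 2 (nn a) + (e.getD 3 0 * chevE8.cartan 3 (nn a) + (e.getD 4 0 * chevE8.cartan 4 (nn a) +
      (e.getD 5 0 * chevE8.cartan 5 (nn a) + (e.getD 6 0 * chevE8.cartan 6 (nn a) + 0)))))) := rfl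
  rw [h3, Fin.prod_univ_seven]
  simp only [← _root_.zpow_mul, Units.val_zpow_eq_zpow_val, Units.val_mk0, zpow_add₀ h2, zpow_zero, mul_one, mul_assoc]
  rfl

/-- a compiled torus element -/
def okt (e : List ℤ) (c : List (ℕ × ℕ)) : Bool := c == fm (te e) W56

theorem V_ct {e : List ℤ} {c : List (ℕ × ℕ)} (h : okt e c = true) (R : ℕ) :
    V F (tor F e) (lv F (pl R)) = lv F (pl (upg ft R c)) := by
  have := eq_of_beq h
  subst this
  exact V_tor e R

/-- the action of a word times an element of the torus -/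
theorem V_wt {w : List (ℕ × ℕ)} {c : List (ℕ × List (ℕ × ℕ))} {e : List ℤ} {d : List (ℕ × ℕ)} (h : okw w c = true)
    (he : okt e d = true) {R E : ℕ} (hE : Nat.beq (cw c (upg ft R d)) E = true) :
    V F (gw F w * tor F e) (lv F (pl R)) = lv F (pl E) := by
  have := Nat.eq_of_beq_eq_true hE
  rw [V_mul, V_ct he, V_cw h, this]

end Cfsg.Agent.R2.PX.C
end

-- part: R2/PX/C/Sp
section
/-!
# Pattern X, Part C: spans of packed vectors (helper3)

* `SP F L` : the span of the packed vectors of the list `L`; `mem_SP` : membership by a check.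
-/

set_option autoImplicit false
set_option maxRecDepth 100000

namespace Cfsg.Agent.R2.PX.C

open Cfsg Cfsg.Lie Matrix
open Cfsg.Agent.R2.T1 Cfsg.Agent.R2.PX
open Cfsg.Agent.ChevalleyStructure.Elts Cfsg.Agent.ChevalleyStructure.RootVec
  Cfsg.Agent.ChevalleyStructure.RootVecTab
open Cfsg.Agent.H943.E7V.Block (D1 rho)

universe u

/-- the combination at the weight `s` -/
def dotp : List ℕ → List ℕ → ℕ → ℕ
  | c :: cs, R :: Rs, s => Nat.add (Nat.mul c (pb R s)) (dotp cs Rs s)
  | _, _, _ => 0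

/-- the check of a linear combination -/
def chkL (cs L : List ℕ) (E : ℕ) : Bool := W56.all fun s => Nat.beq (Nat.mod (dotp cs L s) 5) (pb E s)

section
variable (F : Type u) [Field F]

/-- the span of packed vectors -/
def SP (L : List ℕ) : Submodule F (D1 → F) := Submodule.span F {x | ∃ n ∈ L, x = lv F (pl n)}

variable {F}

theorem SP_of_mem {L : List ℕ} {n : ℕ} (h : n ∈ L) : lv F (pl n) ∈ SP F L := Submodule.subset_span ⟨n, h, rfl⟩

theorem SP_le {L : List ℕ} {W : Submodule F (D1 → F)} (h : ∀ n ∈ L, lv F (pl n) ∈ W) : SP F L ≤ W := by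
  refine Submodule.span_le.2 ?_
  rintro x ⟨n, hn, rfl⟩
  exact h n hn

theorem SP_mono {L L' : List ℕ} (h : ∀ n ∈ L, n ∈ L') : SP F L ≤ SP F L' := SP_le fun _ hn => SP_of_mem (h _ hn)

/-- the combination -/
def lvd (F : Type u) [Field F] : List ℕ → List ℕ → (D1 → F)
  | c :: cs, R :: Rs => (c : F) • lv F (pl R) + lvd F cs Rs
  | _, _ => 0

theorem lvd_mem : ∀ (L cs : List ℕ), lvd F cs L ∈ SP F L := by
  intro L
  induction L with
  | nil =>
    intro cs
    cases cs <;> exact Submodule.zero_mem _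
  | cons R L ih =>
    intro cs
    cases cs with
    | nil => exact Submodule.zero_mem _
    | cons c cs =>
      exact Submodule.add_mem _ (Submodule.smul_mem _ _ (SP_of_mem List.mem_cons_self))
        (SP_mono (fun _ h => List.mem_cons_of_mem _ h) (ih cs))

theorem lvd_apply : ∀ (L cs : List ℕ) (a : D1), lvd F cs L a = ((dotp cs L (nn a) : ℕ) : F) := by
  intro L
  induction L with
  | nil =>
    intro cs a
    cases cs <;> simp [lvd, dotp]
  | cons R L ih =>
    intro cs a
    cases cs with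
    | nil => simp [lvd, dotp]
    | cons c cs =>
      show (c : F) * lv F (pl R) a + lvd F cs L a = ((c * pa R (nn a) + dotp cs L (nn a) : ℕ) : F)
      rw [ih, lv_pl]
      push_cast
      rfl

theorem lvd_eq [CharP F 5] {cs L : List ℕ} {E : ℕ} (h : chkL cs L E = true) : lv F (pl E) = lvd F cs L := by
  funext a
  have h1 := Nat.eq_of_beq_eq_true (List.all_eq_true.1 h (nn a) (nn_mem a))
  rw [lvd_apply, lv_pl, ← pb_eq, ← h1]
  exact castmod _

/-- membership in a span -/
theorem mem_SP [CharP F 5] {cs L : List ℕ} {E : ℕ} (h : chkL cs L E = true) : lv F (pl E) ∈ SP F L := by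
  rw [lvd_eq h]; exact lvd_mem _ _

end

end Cfsg.Agent.R2.PX.C
end

-- part: R2/PX/C/StdA
section
/-!
# Pattern X, Part C: the standard configuration, the vectors (helper3)
-/

set_option autoImplicit false
set_option maxRecDepth 100000

namespace Cfsg.Agent.R2.PX.C

open Cfsg Cfsg.Lie Matrix
open Cfsg.Agent.R2.T1 Cfsg.Agent.R2.PX
open Cfsg.Agent.H943.E7V.Block (D1 rho)

universe u
variable {F : Type u} [Field F]

/-- the vector `u_0` -/
def u0 : ℕ := 0x300

/-- the vector `u_1` -/
def u1 : ℕ := 0x30000000000000000000000000000000000000000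

/-- the vector `u_2` -/
def u2 : ℕ := 0x300000000000000000000000000000000000000000000000000000000000000000000000000000000000000000000000000000000000

/-- the vector `u_3` -/
def u3 : ℕ := 0x40003001000300100030000003300000000000040000000000020000202000000000000000000030300000000000000000000000000000000200300

/-- the vector `u_4` -/
def u4 : ℕ := 0x40001234000304100040000100100100000340010000003010030000104003000000000000000030000200000000000000000000000003000200300

/-- the vector `u_5` -/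
def u5 : ℕ := 0x40413410210303423140222201300240300134000010041020000001102001000200002000000030100400040000200000100000300001000300300

/-- the vector `u_6` -/
def u6 : ℕ := 0x40143410340303432440333201300210200131000040011020000004102001000300003000000030100400010000300000400000200001000300300

/-- the vector `u_7` -/
def u7 : ℕ := 0x40000000000000000000000000000000000000000000000000000000000000000000000000000000000000000000000000000000000000000000000

/-- the eight vectors -/
def UL : List ℕ := [u0, u1, u2, u3, u4, u5, u6, u7]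

variable (F)

/-- the standard configuration -/
def uv (i : Fin 8) : D1 → F := lv F (pl (UL.getD i 0))

variable {F}

theorem lv_pl_zero : lv F (pl 0) = 0 := by
  funext a
  rw [lv_pl]
  show (((0 >>> (4 * (nn a - 120))) &&& 15 : ℕ) : F) = 0
  rw [Nat.zero_shiftRight, Nat.zero_and, Nat.cast_zero]

theorem pure0 : chkQ u0 u0 0 = true := by decide +kernel

theorem pure1 : chkQ u1 u1 0 = true := by decide +kernel

theorem pure2 : chkQ u2 u2 0 = true := by decide +kernel

theorem pure3 : chkQ u3 u3 0 = true := by decide +kernel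

theorem pure4 : chkQ u4 u4 0 = true := by decide +kernel

theorem pure5 : chkQ u5 u5 0 = true := by decide +kernel

theorem pure6 : chkQ u6 u6 0 = true := by decide +kernel

theorem pure7 : chkQ u7 u7 0 = true := by decide +kernel

theorem isoU : (UL.all fun x => UL.all fun y => Nat.beq (om x y) 0) = true := by decide +kernel

theorem sumU : chkL [1, 1, 1, 1, 1, 1, 1, 1] UL 0 = true := by decide +kernel

theorem UL_mem (i : Fin 8) : UL.getD i 0 ∈ UL := by
  rw [List.getD_eq_getElem _ _ (show (i : ℕ) < UL.length from i.2)]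
  exact List.getElem_mem _

theorem uv_iso [CharP F 5] (i j : Fin 8) : sf F (uv F i) (uv F j) = 0 := by
  rw [uv, uv, ← om_spec]
  have h := Nat.eq_of_beq_eq_true (List.all_eq_true.1 (List.all_eq_true.1 isoU _ (UL_mem i)) _ (UL_mem j))
  rw [h, Nat.cast_zero]

theorem qv_zero : qv F 0 = 0 := by
  funext j
  rcases j with i | r
  · show (((0 >>> (4 * (126 + (i : ℕ)))) &&& 15 : ℕ) : F) = 0
    rw [Nat.zero_shiftRight, Nat.zero_and, Nat.cast_zero]
  · show (((0 >>> (4 * (r : ℕ))) &&& 15 : ℕ) : F) = 0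
    rw [Nat.zero_shiftRight, Nat.zero_and, Nat.cast_zero]

theorem pure_of [CharP F 5] {A : ℕ} (h : chkQ A A 0 = true) : Pure F (lv F (pl A)) := by
  unfold Pure
  rw [← del_dd, dd_eval h, qv_zero]
  exact (del F).map_zero

theorem uv_pure [CharP F 5] : ∀ i : Fin 8, Pure F (uv F i) := by
  intro i
  fin_cases i
  · exact pure_of pure0
  · exact pure_of pure1
  · exact pure_of pure2
  · exact pure_of pure3
  · exact pure_of pure4
  · exact pure_of pure5
  · exact pure_of pure6
  · exact pure_of pure7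

theorem uv_sum [CharP F 5] : ∑ i, uv F i = 0 := by
  have h := lvd_eq (F := F) sumU
  rw [lv_pl_zero] at h
  rw [Fin.sum_univ_eight]
  have h2 : lvd F [1, 1, 1, 1, 1, 1, 1, 1] UL = ((1 : ℕ) : F) • lv F (pl u0) + (((1 : ℕ) : F) • lv F (pl u1) +
      (((1 : ℕ) : F) • lv F (pl u2) + (((1 : ℕ) : F) • lv F (pl u3) + (((1 : ℕ) : F) • lv F (pl u4) +
      (((1 : ℕ) : F) • lv F (pl u5) + (((1 : ℕ) : F) • lv F (pl u6) + (((1 : ℕ) : F) • lv F (pl u7) + 0))))))) := rfl
  rw [h2, Nat.cast_one] at h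
  simp only [one_smul, add_zero] at h
  rw [h]
  show lv F (pl u0) + lv F (pl u1) + lv F (pl u2) + lv F (pl u3) + lv F (pl u4) + lv F (pl u5) + lv F (pl u6) +
    lv F (pl u7) = _
  simp only [add_assoc]

end Cfsg.Agent.R2.PX.C
end

private theorem dce_30c63a11af93 : _root_.True := by
  try have : _root_.True := by simp only [_root_.Cfsg.Agent.R2.PX.C.uv.eq_1]
  try have : _root_.True := by simp only [_root_.Cfsg.Agent.R2.PX.C.tor.eq_1]
  try have : _root_.True := by simp only [_root_.Cfsg.Agent.R2.PX.C.dotp.eq_def]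
  try have : _root_.True := by simp only [_root_.Cfsg.Agent.R2.PX.C.lvd.eq_1]
  try have : _root_.True := by simp only [_root_.Cfsg.Agent.R2.PX.C.lvd.eq_2]
  try have : _root_.True := by simp only [_root_.Cfsg.Agent.R2.PX.C.dotp._sparseCasesOn_1.else_eq]
  try have : _root_.True := by simp only [_root_.Cfsg.Agent.R2.PX.C.lvd.eq_def]
  try have : _root_.True := by simp only [_root_.Cfsg.Agent.R2.PX.C.dotp.eq_1]
  try have : _root_.True := by simp only [_root_.Cfsg.Agent.R2.PX.C.dotp.eq_2]
  exact _root_.True.intro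
end

-- part: R2/PX/C/StdT2_mg
section
set_option linter.all false

-- part: R2/PX/C/StdT2
section
/-!
# Pattern X, Part C: the standard configuration, the triple products (helper3)
-/

set_option autoImplicit false
set_option maxRecDepth 100000

namespace Cfsg.Agent.R2.PX.C

open Cfsg Cfsg.Lie Matrix
open Cfsg.Agent.R2.T1 Cfsg.Agent.R2.PX
open Cfsg.Agent.H943.E7V.Block (D1 rho)

universe u
variable {F : Type u} [Field F]

/-- `D(u_0, u_4)` -/
def q04 : ℕ := 0x4000000001000020000300010000003000040004000000400000400003000213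

private noncomputable def _root_.Cfsg.Agent.LsF.fffc13d_0 : {f // @Cfsg.Agent.R2.PX.lk = f} := ⟨_, by first | (delta Cfsg.Agent.R2.PX.lk; rewrite [Cfsg.Agent.LsF.nmul_pat]; exact rfl) | exact rfl⟩
private noncomputable def _root_.Cfsg.Agent.LsF.fffc13d_1 : {f // @Cfsg.Agent.R2.PX.C.sn = f} := ⟨_, by first | (delta Cfsg.Agent.R2.PX.C.sn; rewrite [Cfsg.Agent.LsF.nmod_pat, Cfsg.Agent.LsF.cond_eq]; exact rfl) | exact rfl⟩
private noncomputable def _root_.Cfsg.Agent.LsF.fffc13d_2 : {f // @Cfsg.Agent.R2.PX.C.pa = f} := ⟨_, by first | (delta Cfsg.Agent.R2.PX.C.pa; rewrite [Cfsg.Agent.LsF.nmul_pat, Cfsg.Agent.LsF.nsub_pat]; exact rfl) | exact rfl⟩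
private noncomputable def _root_.Cfsg.Agent.LsF.fffc13d_3 : {f // @Cfsg.Agent.R2.PX.C.cr = f} := ⟨_, by first | (delta Cfsg.Agent.R2.PX.C.cr; rewrite [Cfsg.Agent.LsF.fffc13d_0.2, Cfsg.Agent.LsF.fffc13d_1.2, Cfsg.Agent.LsF.fffc13d_2.2, Cfsg.Agent.LsF.nmul_pat, Cfsg.Agent.LsF.nsub_pat, Cfsg.Agent.LsF.ndiv_pat, Cfsg.Agent.LsF.map_eq, Cfsg.Agent.LsF.sum_eq, Cfsg.Agent.LsF.getD_eq]; exact rfl) | exact rfl⟩
private noncomputable def _root_.Cfsg.Agent.LsF.fffc13d_4 : {f // @Cfsg.Agent.R2.PX.C.q = f} := ⟨_, by first | (delta Cfsg.Agent.R2.PX.C.q; rewrite [Cfsg.Agent.LsF.nmul_pat]; exact rfl) | exact rfl⟩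
private noncomputable def _root_.Cfsg.Agent.LsF.fffc13d_5 : {f // @Cfsg.Agent.R2.PX.C.ch = f} := ⟨_, by first | (delta Cfsg.Agent.R2.PX.C.ch; rewrite [Cfsg.Agent.LsF.fffc13d_0.2, Cfsg.Agent.LsF.fffc13d_2.2, Cfsg.Agent.LsF.fffc13d_1.2, Cfsg.Agent.LsF.nmul_pat, Cfsg.Agent.LsF.nsub_pat, Cfsg.Agent.LsF.ndiv_pat, Cfsg.Agent.LsF.map_eq, Cfsg.Agent.LsF.sum_eq]; exact rfl) | exact rfl⟩
private noncomputable def _root_.Cfsg.Agent.LsF.fffc13d_6 : {f // @Cfsg.Agent.R2.PX.C.chkQ = f} := ⟨_, by first | (delta Cfsg.Agent.R2.PX.C.chkQ; rewrite [Cfsg.Agent.LsF.fffc13d_3.2, Cfsg.Agent.LsF.fffc13d_4.2, Cfsg.Agent.LsF.fffc13d_5.2, Cfsg.Agent.LsF.nadd_pat, Cfsg.Agent.LsF.nmul_pat, Cfsg.Agent.LsF.nsub_pat, Cfsg.Agent.LsF.nmod_pat, Cfsg.Agent.LsF.and_eq, Cfsg.Agent.LsF.all_eq, Cfsg.Agent.LsF.range_eq]; exact rfl) | exact rfl⟩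
theorem Q04 : chkQ u0 u4 q04 = true := by ((try (rewrite [Cfsg.Agent.LsF.fffc13d_6.2])); decide +kernel)

/-- `D(u_0, u_4) u_5` -/
def t045 : ℕ := 0x2000000100002000400100200030030010030010000003000002000300002000000200200400010000400000400000000002000200001

private noncomputable def _root_.Cfsg.Agent.LsF.fffc13d_7 : {f // @Cfsg.Agent.R2.PX.C.chkD = f} := ⟨_, by first | (delta Cfsg.Agent.R2.PX.C.chkD; rewrite [Cfsg.Agent.LsF.fffc13d_4.2, Cfsg.Agent.LsF.fffc13d_1.2, Cfsg.Agent.LsF.fffc13d_2.2, Cfsg.Agent.LsF.nadd_pat, Cfsg.Agent.LsF.nmul_pat, Cfsg.Agent.LsF.ndiv_pat, Cfsg.Agent.LsF.nmod_pat, Cfsg.Agent.LsF.all_eq, Cfsg.Agent.LsF.map_eq, Cfsg.Agent.LsF.range_eq, Cfsg.Agent.LsF.sum_eq]; exact rfl) | exact rfl⟩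
theorem T045 : chkD q04 u5 t045 = true := by ((try (rewrite [Cfsg.Agent.LsF.fffc13d_7.2])); decide +kernel)

/-- `D(u_0, u_4) u_6` -/
def t046 : ℕ := 0x2000000100002000100400200020020010030040000003000003000300002000000200300100010000400000400000000003000300001

theorem T046 : chkD q04 u6 t046 = true := by ((try (rewrite [Cfsg.Agent.LsF.fffc13d_7.2])); decide +kernel)

/-- `D(u_0, u_4) u_7` -/
def t047 : ℕ := 0x2000000100004000000000000000000000020000000004000000000000000000000200000000000000000000000000000000000000000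

theorem T047 : chkD q04 u7 t047 = true := by ((try (rewrite [Cfsg.Agent.LsF.fffc13d_7.2])); decide +kernel)

/-- `D(u_1, u_2)` -/
def q12 : ℕ := 0x300000000000000000000000000000000000000000000000000000000000000

theorem Q12 : chkQ u1 u2 q12 = true := by ((try (rewrite [Cfsg.Agent.LsF.fffc13d_6.2])); decide +kernel)

/-- `D(u_1, u_2) u_3` -/
def t123 : ℕ := 0x2000000000000000000000000040000000000002000000000000000000000000000000000000000000000000000000000000000000000000000001

theorem T123 : chkD q12 u3 t123 = true := by ((try (rewrite [Cfsg.Agent.LsF.fffc13d_7.2])); decide +kernel)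

/-- `D(u_1, u_2) u_4` -/
def t124 : ℕ := 0x2000000000000000000000000030030000002003000000000000000000000000000000000000000000000000000000000000000000000000000001

theorem T124 : chkD q12 u4 t124 = true := by ((try (rewrite [Cfsg.Agent.LsF.fffc13d_7.2])); decide +kernel)

/-- `D(u_1, u_2) u_5` -/
def t125 : ℕ := 0x2000000000000000030000100040010000004000000002000000000300000000000000000000000000000000000000000000000000000000000001

theorem T125 : chkD q12 u5 t125 = true := by ((try (rewrite [Cfsg.Agent.LsF.fffc13d_7.2])); decide +kernel)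

/-- `D(u_1, u_2) u_6` -/
def t126 : ℕ := 0x2000000000000000020000400040010000004000000003000000000200000000000000000000000000000000000000000000000000000000000001

theorem T126 : chkD q12 u6 t126 = true := by ((try (rewrite [Cfsg.Agent.LsF.fffc13d_7.2])); decide +kernel)

/-- `D(u_1, u_2) u_7` -/
def t127 : ℕ := 0x2000000000000000000000000000000000000000000000000000000000000000000000000000000000000000000000000000000000000000000000

theorem T127 : chkD q12 u7 t127 = true := by decide +kernel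

/-- `D(u_2, u_4)` -/
def q24 : ℕ := 0x400000100040000000000000044021400000000000000000000000000000000300002000000000000000000003023000000000000000000000000000000000

theorem Q24 : chkQ u2 u4 q24 = true := by ((try (rewrite [Cfsg.Agent.LsF.fffc13d_6.2])); decide +kernel)

/-- `D(u_2, u_4) u_5` -/
def t245 : ℕ := 0x2224432212000000020000100000040200001003040002030010000204002000400001000000000000000000000000000000000000000000000001

theorem T245 : chkD q24 u5 t245 = true := by ((try (rewrite [Cfsg.Agent.LsF.fffc13d_7.2])); decide +kernel)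

/-- `D(u_2, u_4) u_6` -/
def t246 : ℕ := 0x2221123212000000030000400000040200001003040003020040000301003000400001000000000000000000000000000000000000000000000001

theorem T246 : chkD q24 u6 t246 = true := by ((try (rewrite [Cfsg.Agent.LsF.fffc13d_7.2])); decide +kernel)

/-- `D(u_2, u_4) u_7` -/
def t247 : ℕ := 0x2030000222000000000000000000000000000000000000000000000000000000000000000000000000000000000000000000000000000000000000

theorem T247 : chkD q24 u7 t247 = true := by decide +kernel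

/-- `D(u_4, u_5)` -/
def q45 : ℕ := 0x13420424323111431431001304143441114230441423333132104123131024414314321111214013312103321140443243430241312411430342243123432113113

theorem Q45 : chkQ u4 u5 q45 = true := by ((try (rewrite [Cfsg.Agent.LsF.fffc13d_6.2])); decide +kernel)

/-- `D(u_4, u_5) u_6` -/
def t456 : ℕ := 0x2300000032000002300200000010000000000003020000000000002000000000100000000000200000000010000000000000000300000000000001

theorem T456 : chkD q45 u6 t456 = true := by decide +kernel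

/-- `D(u_4, u_5) u_7` -/
def t457 : ℕ := 0x2440330242004410200221003100300000410020000010000000004000000000000000000000200000000000000000000000000000000000000000

theorem T457 : chkD q45 u7 t457 = true := by ((try (rewrite [Cfsg.Agent.LsF.fffc13d_7.2])); decide +kernel)

/-- `D(u_4, u_6)` -/
def q46 : ℕ := 0x42130424232144131421001304412441414220444432233122101423124024441344331441214043313403331140113343120244312144420313213122122442113

theorem Q46 : chkQ u4 u6 q46 = true := by ((try (rewrite [Cfsg.Agent.LsF.fffc13d_6.2])); decide +kernel)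

/-- `D(u_4, u_6) u_7` -/
def t467 : ℕ := 0x2440220242001110200221002400200000140030000010000000004000000000000000000000200000000000000000000000000000000000000000

theorem T467 : chkD q46 u7 t467 = true := by ((try (rewrite [Cfsg.Agent.LsF.fffc13d_7.2])); decide +kernel)


end Cfsg.Agent.R2.PX.C
end

-- part: R2/PX/C/StdT3
section
/-!
# Pattern X, Part C: the standard configuration, the triple products (helper3)
-/

set_option autoImplicit false
set_option maxRecDepth 100000

namespace Cfsg.Agent.R2.PX.C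

open Cfsg Cfsg.Lie Matrix
open Cfsg.Agent.R2.T1 Cfsg.Agent.R2.PX
open Cfsg.Agent.H943.E7V.Block (D1 rho)

universe u
variable {F : Type u} [Field F]

/-- `D(u_0, u_3)` -/
def q03 : ℕ := 0x4000000003000000000000040000003000000004000000300000020000000023

theorem Q03 : chkQ u0 u3 q03 = true := by ((try (rewrite [Cfsg.Agent.LsF.fffc13d_6.2])); decide +kernel)

/-- `D(u_0, u_3) u_4` -/
def t034 : ℕ := 0x2000000200002000000000400000000000020000000000000000000400002000000200000000000000100000300000200000000000001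

theorem T034 : chkD q03 u4 t034 = true := by ((try (rewrite [Cfsg.Agent.LsF.fffc13d_7.2])); decide +kernel)

/-- `D(u_0, u_3) u_5` -/
def t035 : ℕ := 0x2000000300004000100300300010020010040030010001004002000100004000000200100300030000200000100000300002000100001

theorem T035 : chkD q03 u5 t035 = true := by ((try (rewrite [Cfsg.Agent.LsF.fffc13d_7.2])); decide +kernel)

/-- `D(u_0, u_3) u_6` -/
def t036 : ℕ := 0x2000000300004000400200300040030010040020040001001003000100004000000200400200030000200000100000300003000400001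

theorem T036 : chkD q03 u6 t036 = true := by ((try (rewrite [Cfsg.Agent.LsF.fffc13d_7.2])); decide +kernel)

/-- `D(u_0, u_3) u_7` -/
def t037 : ℕ := 0x2000000200000000000000000000000000000000000003000000000000000000000200000000000000000000000000000000000000000

theorem T037 : chkD q03 u7 t037 = true := by ((try (rewrite [Cfsg.Agent.LsF.fffc13d_7.2])); decide +kernel)

/-- `D(u_0, u_6)` -/
def q06 : ℕ := 0x4010040003000040000100000030103000030001003030402030340041040413

theorem Q06 : chkQ u0 u6 q06 = true := by ((try (rewrite [Cfsg.Agent.LsF.fffc13d_6.2])); decide +kernel)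

/-- `D(u_0, u_6) u_7` -/
def t067 : ℕ := 0x2000000100003000000400000040000000040000000004000000000000000000000200000000000000000000000000000000000000000

theorem T067 : chkD q06 u7 t067 = true := by ((try (rewrite [Cfsg.Agent.LsF.fffc13d_7.2])); decide +kernel)

/-- `D(u_1, u_3)` -/
def q13 : ℕ := 0x400000020000000000000100000000300000000000000000000000000000003000040000003000300000000000003

theorem Q13 : chkQ u1 u3 q13 = true := by ((try (rewrite [Cfsg.Agent.LsF.fffc13d_6.2])); decide +kernel)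

/-- `D(u_1, u_3) u_4` -/
def t134 : ℕ := 0x2000000000000022000140000010030000002004000000000000000000000000000000000000200000000030000300000300000300000000000001

theorem T134 : chkD q13 u4 t134 = true := by ((try (rewrite [Cfsg.Agent.LsF.fffc13d_7.2])); decide +kernel)

/-- `D(u_1, u_3) u_5` -/
def t135 : ℕ := 0x2000000000004440020330103000010000404002000002000000000200000000000000000000200200400040000100000100000000002000200001

theorem T135 : chkD q13 u5 t135 = true := by decide +kernel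

/-- `D(u_1, u_3) u_6` -/
def t136 : ℕ := 0x2000000000001140030330402000010000104002000003000000000300000000000000000000200300100040000100000100000000003000300001

theorem T136 : chkD q13 u6 t136 = true := by ((try (rewrite [Cfsg.Agent.LsF.fffc13d_7.2])); decide +kernel)

/-- `D(u_1, u_3) u_7` -/
def t137 : ℕ := 0x2000000000000003000300000000000000000000000000000000000000000000000000000000200000000000000000000000000000000000000000

theorem T137 : chkD q13 u7 t137 = true := by ((try (rewrite [Cfsg.Agent.LsF.fffc13d_7.2])); decide +kernel)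

/-- `D(u_1, u_6)` -/
def q16 : ℕ := 0x404010020001000040000000020040300000000000000000000000000000423302200140200040301002000300003

theorem Q16 : chkQ u1 u6 q16 = true := by ((try (rewrite [Cfsg.Agent.LsF.fffc13d_6.2])); decide +kernel)

/-- `D(u_1, u_6) u_7` -/
def t167 : ℕ := 0x2000000000003130000340002000000000200000000000000000000000000000000000000000200000000000000000000000000000000000000000

theorem T167 : chkD q16 u7 t167 = true := by ((try (rewrite [Cfsg.Agent.LsF.fffc13d_7.2])); decide +kernel)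

/-- `D(u_3, u_4)` -/
def q34 : ℕ := 0x444000200004404000203000234011200420100004303300044300112300304303001131004410004103310001003004230322000103000001410003000123

theorem Q34 : chkQ u3 u4 q34 = true := by ((try (rewrite [Cfsg.Agent.LsF.fffc13d_6.2])); decide +kernel)

/-- `D(u_3, u_4) u_5` -/
def t345 : ℕ := 0x2141343122002420430212103010140100311000030012010040001301001000200002000000200200300010000300000200000000001000200001

theorem T345 : chkD q34 u5 t345 = true := by ((try (rewrite [Cfsg.Agent.LsF.fffc13d_7.2])); decide +kernel)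

/-- `D(u_3, u_4) u_6` -/
def t346 : ℕ := 0x2144212122003120420212402010440100241000030013040010001204004000200002000000200300200010000300000200000000004000300001

theorem T346 : chkD q34 u6 t346 = true := by ((try (rewrite [Cfsg.Agent.LsF.fffc13d_7.2])); decide +kernel)

/-- `D(u_3, u_4) u_7` -/
def t347 : ℕ := 0x2240000402000043000044000000000000000000000010000000003000000000000000000000200000000000000000000000000000000000000000

theorem T347 : chkD q34 u7 t347 = true := by ((try (rewrite [Cfsg.Agent.LsF.fffc13d_7.2])); decide +kernel)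

/-- `D(u_5, u_6)` -/
def q56 : ℕ := 0x402000300033204004002000443032200410200014301300014300112200004301003130004430004403310004043003120420000203200404330001000303

theorem Q56 : chkQ u5 u6 q56 = true := by ((try (rewrite [Cfsg.Agent.LsF.fffc13d_6.2])); decide +kernel)

/-- `D(u_5, u_6) u_7` -/
def t567 : ℕ := 0x2420000142000033300413000000000000000000000030000000000000000000000000000000200000000000000000000000000000000000000000

theorem T567 : chkD q56 u7 t567 = true := by ((try (rewrite [Cfsg.Agent.LsF.fffc13d_7.2])); decide +kernel)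


end Cfsg.Agent.R2.PX.C
end
end

-- part: R2/PX/C/StdR3
section
set_option linter.all false
open scoped Cfsg.Agent.FastGrp

/-!
# Pattern X, Part C: the standard configuration, the three-cycle (3 4 5) (helper3)
-/

set_option autoImplicit false
set_option maxRecDepth 100000

namespace Cfsg.Agent.R2.PX.C

open Cfsg Cfsg.Lie Matrix
open Cfsg.Agent.R2.T1 Cfsg.Agent.R2.PX
open Cfsg.Agent.H943.E7V.Block (D1 rho)

universe u
variable {F : Type u} [Field F]

/-- the word -/
def wR3 : List (ℕ × ℕ) := [(41, 2), (45, 4), (50, 4), (55, 3), (59, 4), (42, 1), (46, 4), (51, 2), (66, 2), (47, 2), (52, 3), (69, 4),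
  (70, 1), (73, 3), (74, 2), (75, 2), (78, 2), (79, 1), (80, 1), (83, 1), (84, 2)]

/-- the compiled word -/
def cR3 : List (ℕ × List (ℕ × ℕ)) := [
  (2, [(125, 303), (134, 316), (168, 380), (177, 413), (182, 422), (183, 424), (198, 441), (199, 443), (203, 446),
  (217, 451), (229, 468), (231, 473)]),
  (4, [(125, 293), (140, 316), (168, 360), (187, 412), (192, 423), (193, 425), (198, 431), (199, 433), (203, 436),
  (222, 450), (229, 466), (232, 472)]),
  (4, [(125, 281), (146, 316), (173, 381), (177, 393), (182, 402), (183, 404), (208, 440), (209, 442), (213, 447),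
  (217, 449), (229, 464), (233, 472)]),
  (3, [(125, 269), (151, 316), (173, 360), (187, 393), (192, 402), (193, 404), (208, 431), (209, 433), (213, 436),
  (222, 449), (229, 463), (234, 472)]),
  (4, [(125, 259), (155, 316), (177, 360), (187, 380), (198, 402), (199, 404), (208, 422), (209, 424), (217, 436),
  (222, 446), (229, 460), (235, 472)]),
  (1, [(129, 303), (134, 310), (168, 374), (180, 412), (182, 416), (183, 418), (201, 440), (202, 442), (203, 444),
  (218, 450), (230, 469), (231, 471)]),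
  (4, [(129, 293), (140, 310), (168, 354), (190, 413), (192, 417), (193, 419), (201, 430), (202, 432), (203, 434),
  (223, 451), (230, 467), (232, 470)]),
  (2, [(129, 281), (146, 310), (173, 375), (180, 392), (182, 396), (183, 398), (211, 441), (212, 443), (213, 445),
  (218, 448), (230, 465), (233, 470)]),
  (2, [(129, 251), (158, 310), (180, 354), (190, 374), (201, 396), (202, 398), (211, 416), (212, 418), (218, 434),
  (223, 444), (230, 458), (236, 470)]),
  (2, [(134, 293), (140, 302), (168, 346), (196, 412), (198, 416), (199, 418), (201, 422), (202, 424), (203, 426),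
  (224, 450), (231, 466), (232, 468)]),
  (3, [(134, 281), (146, 302), (177, 374), (180, 380), (182, 384), (183, 386), (215, 440), (216, 442), (217, 444),
  (218, 446), (231, 464), (233, 468)]),
  (4, [(134, 259), (155, 302), (177, 346), (196, 380), (198, 384), (199, 386), (215, 422), (216, 424), (217, 426),
  (224, 446), (231, 460), (235, 468)]),
  (1, [(134, 251), (158, 302), (180, 346), (196, 375), (201, 384), (202, 386), (215, 417), (216, 419), (218, 426),
  (224, 445), (231, 459), (236, 468)]),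
  (3, [(140, 269), (151, 292), (187, 354), (190, 360), (192, 364), (193, 366), (220, 430), (221, 432), (222, 434),
  (223, 436), (232, 462), (234, 466)]),
  (2, [(140, 259), (155, 292), (187, 347), (196, 360), (198, 364), (199, 366), (220, 423), (221, 425), (222, 427),
  (224, 436), (232, 461), (235, 466)]),
  (2, [(140, 251), (158, 292), (190, 347), (196, 355), (201, 364), (202, 366), (220, 416), (221, 418), (223, 427),
  (224, 435), (232, 458), (236, 466)]),
  (2, [(146, 269), (151, 280), (173, 336), (206, 392), (208, 396), (209, 398), (211, 402), (212, 404), (213, 406),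
  (225, 448), (233, 462), (234, 464)]),
  (1, [(146, 259), (155, 280), (177, 336), (206, 381), (208, 385), (209, 387), (215, 402), (216, 404), (217, 406),
  (225, 447), (233, 461), (235, 464)]),
  (1, [(146, 251), (158, 280), (180, 336), (206, 374), (211, 385), (212, 387), (215, 397), (216, 399), (218, 406),
  (225, 444), (233, 458), (236, 464)]),
  (1, [(151, 259), (155, 268), (187, 336), (206, 360), (208, 364), (209, 366), (220, 402), (221, 404), (222, 406),
  (225, 436), (234, 461), (235, 463)]),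
  (2, [(151, 251), (158, 268), (190, 336), (206, 355), (211, 364), (212, 366), (220, 397), (221, 399), (223, 406),
  (225, 435), (234, 458), (236, 463)])]

/-- the exponents of the element of the torus -/
def eR3 : List ℤ := [0, 1, 0, 2, 3, 0, 0]

/-- the compiled element of the torus -/
def dR3 : List (ℕ × ℕ) := [(120, 1), (122, 1), (125, 2), (129, 2), (134, 2), (140, 3), (146, 2), (151, 3), (155, 3), (158, 3), (160, 1),
  (161, 1), (168, 3), (173, 3), (177, 3), (180, 3), (182, 1), (183, 1), (187, 2), (190, 2), (192, 4), (193, 4),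
  (196, 2), (198, 4), (199, 4), (201, 4), (202, 4), (203, 3), (206, 2), (208, 4), (209, 4), (211, 4), (212, 4),
  (213, 3), (215, 4), (216, 4), (217, 3), (218, 3), (220, 1), (221, 1), (222, 2), (223, 2), (224, 2), (225, 2),
  (227, 1), (228, 1), (229, 2), (230, 2), (231, 2), (232, 3), (233, 2), (234, 3), (235, 3), (236, 3), (237, 1),
  (238, 1)]

theorem okwR3 : okw wR3 cR3 = true := by decide +kernel

private noncomputable def _root_.Cfsg.Agent.LsF.fd8eeb7_0 : {f // @Cfsg.Agent.R2.PX.C.fm = f} := ⟨_, by first | (delta Cfsg.Agent.R2.PX.C.fm; rewrite [Cfsg.Agent.LsF.cond_eq, Cfsg.Agent.LsF.filterMap_eq]; exact rfl) | exact rfl⟩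
private noncomputable def _root_.Cfsg.Agent.LsF.fd8eeb7_1 : {f // @Cfsg.Lie.ChevalleyDatum.cartan = f} := ⟨_, by first | (delta Cfsg.Lie.ChevalleyDatum.cartan; rewrite [Cfsg.Agent.LsF.agetD_eq]; exact rfl) | exact rfl⟩
private noncomputable def _root_.Cfsg.Agent.LsF.fd8eeb7_2 : {f // @Cfsg.Agent.R2.PX.C.tx = f} := ⟨_, by first | (delta Cfsg.Agent.R2.PX.C.tx; rewrite [Cfsg.Agent.LsF.fd8eeb7_1.2, Cfsg.Agent.LsF.imul_pat, Cfsg.Agent.LsF.map_eq, Cfsg.Agent.LsF.range_eq, Cfsg.Agent.LsF.sum_eq, Cfsg.Agent.LsF.getD_eq, Cfsg.Agent.LsF.instIAdd_eq]; exact rfl) | exact rfl⟩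
private noncomputable def _root_.Cfsg.Agent.LsF.fd8eeb7_3 : {f // @Cfsg.Agent.R2.PX.C.te = f} := ⟨_, by first | (delta Cfsg.Agent.R2.PX.C.te; rewrite [Cfsg.Agent.LsF.fd8eeb7_2.2, Cfsg.Agent.LsF.nmod_pat, Cfsg.Agent.LsF.npow_pat, Cfsg.Agent.LsF.imod_pat, Cfsg.Agent.LsF.toNat_eq]; exact rfl) | exact rfl⟩
private noncomputable def _root_.Cfsg.Agent.LsF.fd8eeb7_4 : {f // @Cfsg.Agent.R2.PX.C.okt = f} := ⟨_, by first | (delta Cfsg.Agent.R2.PX.C.okt; rewrite [Cfsg.Agent.LsF.fd8eeb7_0.2, Cfsg.Agent.LsF.fd8eeb7_3.2, Cfsg.Agent.LsF.instNBEq_pat, Cfsg.Agent.LsF.instBEq_eq, Cfsg.Agent.LsF.instPBEq_eq]; exact rfl) | exact rfl⟩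
theorem oktR3 : okt eR3 dR3 = true := by ((try (rewrite [Cfsg.Agent.LsF.fd8eeb7_4.2])); decide +kernel)

theorem actR3 : Nat.beq (cw cR3 (upg ft u0 dR3)) u0 = true ∧
    Nat.beq (cw cR3 (upg ft u1 dR3)) u1 = true ∧
    Nat.beq (cw cR3 (upg ft u2 dR3)) u2 = true ∧
    Nat.beq (cw cR3 (upg ft u3 dR3)) u4 = true ∧
    Nat.beq (cw cR3 (upg ft u4 dR3)) u5 = true ∧
    Nat.beq (cw cR3 (upg ft u5 dR3)) u3 = true ∧
    Nat.beq (cw cR3 (upg ft u6 dR3)) u6 = true ∧
    Nat.beq (cw cR3 (upg ft u7 dR3)) u7 = true := by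
  refine ⟨?_, ?_, ?_, ?_, ?_, ?_, ?_, ?_⟩ <;> decide +kernel

/-- the element -/
noncomputable def gR3 (F : Type u) [Field F] [CharP F 5] : Gh F := gw F wR3 * tor F eR3

theorem gR3_act [CharP F 5] (j : Fin 8) : V F (gR3 F) (uv F j) = uv F ((Equiv.swap (3 : Fin 8) 4 * Equiv.swap (4 : Fin 8) 5 : Equiv.Perm (Fin 8)) j) := by
  have h : ∀ j : Fin 8, (Equiv.swap (3 : Fin 8) 4 * Equiv.swap (4 : Fin 8) 5 : Equiv.Perm (Fin 8)) j = ![0, 1, 2, 4, 5, 3, 6, 7] j := by decide
  rw [h]
  obtain ⟨h0, h1, h2, h3, h4, h5, h6, h7⟩ := actR3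
  fin_cases j
  · exact V_wt okwR3 oktR3 h0
  · exact V_wt okwR3 oktR3 h1
  · exact V_wt okwR3 oktR3 h2
  · exact V_wt okwR3 oktR3 h3
  · exact V_wt okwR3 oktR3 h4
  · exact V_wt okwR3 oktR3 h5
  · exact V_wt okwR3 oktR3 h6
  · exact V_wt okwR3 oktR3 h7

end Cfsg.Agent.R2.PX.C
end
end
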